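import Cfsg.Agent.Lib.G2FourMult.Mono

/-! Relations of the monomial permutations, part 1. -/

set_option autoImplicit false
set_option maxRecDepth 20000
set_option maxHeartbeats 0
set_option Elab.async false

namespace Cfsg.Agent.G2FourMult.Mono

theorem stated_8 : statedOK Data.rows8 Data.sides8 = true := by decide +kernel

theorem sides_8 : sidesOK Data.sides8 = true := by decide +kernel

theorem stated_9 : statedOK Data.rows9 Data.sides9 = true := by decide +kernel

theorem sides_9 : sidesOK Data.sides9 = true := by decide +kernel

theorem stated_10 : statedOK Data.rows10 Data.sides10 = true := by decide +kernel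

theorem sides_10 : sidesOK Data.sides10 = true := by decide +kernel

theorem stated_11 : statedOK Data.rows11 Data.sides11 = true := by decide +kernel

theorem sides_11 : sidesOK Data.sides11 = true := by decide +kernel

theorem stated_12 : statedOK Data.rows12 Data.sides12 = true := by decide +kernel

theorem sides_12 : sidesOK Data.sides12 = true := by decide +kernel

theorem stated_13 : statedOK Data.rows13 Data.sides13 = true := by decide +kernel

theorem sides_13 : sidesOK Data.sides13 = true := by decide +kernel

theorem stated_14 : statedOK Data.rows14 Data.sides14 = true := by decide +kernel

theorem sides_14 : sidesOK Data.sides14 = true := by decide +kernel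

theorem stated_15 : statedOK Data.rows15 Data.sides15 = true := by decide +kernel

theorem sides_15 : sidesOK Data.sides15 = true := by decide +kernel

theorem part_1 : ∀ q ∈ List.flatten [Data.rows8, Data.rows9, Data.rows10, Data.rows11, Data.rows12, Data.rows13, Data.rows14, Data.rows15],
    sideOK (sideOf q) = true := by
  simp only [List.flatten_cons, List.flatten_nil, List.append_nil, List.forall_mem_append]
  exact ⟨rowsOK stated_8 sides_8, rowsOK stated_9 sides_9, rowsOK stated_10 sides_10, rowsOK stated_11 sides_11, rowsOK stated_12 sides_12, rowsOK stated_13 sides_13, rowsOK stated_14 sides_14, rowsOK stated_15 sides_15⟩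

end Cfsg.Agent.G2FourMult.Mono
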