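import Cfsg.Agent.Lib.G2FourMult.Mono

/-! Relations of the monomial permutations, part 2. -/

set_option autoImplicit false
set_option maxRecDepth 20000
set_option maxHeartbeats 0
set_option Elab.async false

namespace Cfsg.Agent.G2FourMult.Mono

theorem stated_16 : statedOK Data.rows16 Data.sides16 = true := by decide +kernel

theorem sides_16 : sidesOK Data.sides16 = true := by decide +kernel

theorem stated_17 : statedOK Data.rows17 Data.sides17 = true := by decide +kernel

theorem sides_17 : sidesOK Data.sides17 = true := by decide +kernel

theorem stated_18 : statedOK Data.rows18 Data.sides18 = true := by decide +kernel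

theorem sides_18 : sidesOK Data.sides18 = true := by decide +kernel

theorem stated_19 : statedOK Data.rows19 Data.sides19 = true := by decide +kernel

theorem sides_19 : sidesOK Data.sides19 = true := by decide +kernel

theorem stated_20 : statedOK Data.rows20 Data.sides20 = true := by decide +kernel

theorem sides_20 : sidesOK Data.sides20 = true := by decide +kernel

theorem stated_21 : statedOK Data.rows21 Data.sides21 = true := by decide +kernel

theorem sides_21 : sidesOK Data.sides21 = true := by decide +kernel

theorem stated_22 : statedOK Data.rows22 Data.sides22 = true := by decide +kernel

theorem sides_22 : sidesOK Data.sides22 = true := by decide +kernel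

theorem stated_23 : statedOK Data.rows23 Data.sides23 = true := by decide +kernel

theorem sides_23 : sidesOK Data.sides23 = true := by decide +kernel

theorem part_2 : ∀ q ∈ List.flatten [Data.rows16, Data.rows17, Data.rows18, Data.rows19, Data.rows20, Data.rows21, Data.rows22, Data.rows23],
    sideOK (sideOf q) = true := by
  simp only [List.flatten_cons, List.flatten_nil, List.append_nil, List.forall_mem_append]
  exact ⟨rowsOK stated_16 sides_16, rowsOK stated_17 sides_17, rowsOK stated_18 sides_18, rowsOK stated_19 sides_19, rowsOK stated_20 sides_20, rowsOK stated_21 sides_21, rowsOK stated_22 sides_22, rowsOK stated_23 sides_23⟩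

end Cfsg.Agent.G2FourMult.Mono
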