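import Cfsg.Agent.Lib.G2FourMult.Mono

/-! Relations of the monomial permutations, part 3. -/

set_option autoImplicit false
set_option maxRecDepth 20000
set_option maxHeartbeats 0
set_option Elab.async false

namespace Cfsg.Agent.G2FourMult.Mono

theorem stated_24 : statedOK Data.rows24 Data.sides24 = true := by decide +kernel

theorem sides_24 : sidesOK Data.sides24 = true := by decide +kernel

theorem stated_25 : statedOK Data.rows25 Data.sides25 = true := by decide +kernel

theorem sides_25 : sidesOK Data.sides25 = true := by decide +kernel

theorem stated_26 : statedOK Data.rows26 Data.sides26 = true := by decide +kernel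

theorem sides_26 : sidesOK Data.sides26 = true := by decide +kernel

theorem stated_27 : statedOK Data.rows27 Data.sides27 = true := by decide +kernel

theorem sides_27 : sidesOK Data.sides27 = true := by decide +kernel

theorem stated_28 : statedOK Data.rows28 Data.sides28 = true := by decide +kernel

theorem sides_28 : sidesOK Data.sides28 = true := by decide +kernel

theorem stated_29 : statedOK Data.rows29 Data.sides29 = true := by decide +kernel

theorem sides_29 : sidesOK Data.sides29 = true := by decide +kernel

theorem stated_30 : statedOK Data.rows30 Data.sides30 = true := by decide +kernel

theorem sides_30 : sidesOK Data.sides30 = true := by decide +kernel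

theorem stated_31 : statedOK Data.rows31 Data.sides31 = true := by decide +kernel

theorem sides_31 : sidesOK Data.sides31 = true := by decide +kernel

theorem stated_32 : statedOK Data.rows32 Data.sides32 = true := by decide +kernel

theorem sides_32 : sidesOK Data.sides32 = true := by decide +kernel

theorem part_3 : ∀ q ∈ List.flatten [Data.rows24, Data.rows25, Data.rows26, Data.rows27, Data.rows28, Data.rows29, Data.rows30, Data.rows31, Data.rows32],
    sideOK (sideOf q) = true := by
  simp only [List.flatten_cons, List.flatten_nil, List.append_nil, List.forall_mem_append]
  exact ⟨rowsOK stated_24 sides_24, rowsOK stated_25 sides_25, rowsOK stated_26 sides_26, rowsOK stated_27 sides_27, rowsOK stated_28 sides_28, rowsOK stated_29 sides_29, rowsOK stated_30 sides_30, rowsOK stated_31 sides_31, rowsOK stated_32 sides_32⟩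

end Cfsg.Agent.G2FourMult.Mono
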