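import Cfsg.Agent.Lib.G2FourMult.Rels0
import Cfsg.Agent.Lib.G2FourMult.Rels1
import Cfsg.Agent.Lib.G2FourMult.Rels2
import Cfsg.Agent.Lib.G2FourMult.Rels3

/-!
# All rows, and the coverage of all the relations
-/

set_option autoImplicit false
set_option maxRecDepth 20000
set_option maxHeartbeats 0

namespace Cfsg.Agent.G2FourMult.Mono

open Cfsg.Agent.Chevalley.Check Cfsg.Agent.Chevalley.Table

/-- All rows. -/
def allRows : List (List ℕ) :=
  List.flatten [Data.rows0, Data.rows1, Data.rows2, Data.rows3, Data.rows4, Data.rows5, Data.rows6, Data.rows7] ++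
  List.flatten [Data.rows8, Data.rows9, Data.rows10, Data.rows11, Data.rows12, Data.rows13, Data.rows14, Data.rows15] ++
  List.flatten [Data.rows16, Data.rows17, Data.rows18, Data.rows19, Data.rows20, Data.rows21, Data.rows22, Data.rows23] ++
  List.flatten [Data.rows24, Data.rows25, Data.rows26, Data.rows27, Data.rows28, Data.rows29, Data.rows30, Data.rows31, Data.rows32]

theorem row_ok : ∀ q ∈ allRows, sideOK (sideOf q) = true := by
  simp only [allRows, List.forall_mem_append]
  exact ⟨⟨⟨part_0, part_1⟩, part_2⟩, part_3⟩

/-- A row with the given head, whatever the power of the central element. -/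
def hasRow (h : List ℕ) : Bool := [0, 1].any fun e => allRows.contains (h ++ [e])

/-- The torus words tried. -/
def moves : List (List ℕ) := [[], [0], [0, 0], [1], [1, 1], [0, 1], [0, 0, 1], [0, 1, 1], [0, 0, 1, 1]]

/-- The unit values. -/
def units : List ℕ := [1, 2, 3]

/-- Every relation follows from a row. -/
noncomputable def coverOK : Bool :=
  pts (fun r => (units.all fun a => units.all fun b => hasRow [0, r, a, b]) &&
    (pts (fun i => units.all fun v => hasRow [3, i, r, v]) 2) &&
    pts (fun s => s == r || s == T.neg r || Nat.ble s r &&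
      (commOf T.E r s).all (fun c => Nat.mod c.2.1.natAbs 2 == 0) ||
      ((commOf T.E r s).all (fun c => Nat.mod c.2.1.natAbs 2 == 0) &&
        ([1, 2].all fun t => [1, 2].all fun u => hasRow [1, r, s, t, u])) ||
      (units.all fun t => units.all fun u => moves.any fun c => units.any fun t0 => units.any fun u0 =>
        (act c r t0 == t && act c s u0 == u && hasRow [2, r, s, t0, u0]) &&
          (wordV r s t0 u0).map (fun p => (p.1, act c p.1 p.2)) == wordV r s t u)) 12) 12 &&
  pts (fun i => hasRow [4, i]) 2

theorem cover_ok : coverOK = true := by decide +kernel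

theorem gens_ok : pts genOK 38 = true := by decide +kernel

end Cfsg.Agent.G2FourMult.Mono
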