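import Cfsg.Agent.Lib.Chevalley.Cover.SmallFields
import Cfsg.Agent.Lib.Chevalley.Types.OrderG2

/-!
# The finite checks for G2(4)

A torus of order nine separates all pairs of roots except the long ones.
-/

set_option autoImplicit false
set_option maxHeartbeats 0

namespace Cfsg.Agent.G2FourMult

open Cfsg.Lie Cfsg.Agent.Chevalley Cfsg.Agent.Chevalley.Eval Cfsg.Agent.Chevalley.Table
  Cfsg.Agent.Chevalley.Check Cfsg.Agent.Chevalley.Cert Cfsg.Agent.Chevalley.Perfect
  Cfsg.Agent.Chevalley.StKernel Cfsg.Agent.Chevalley.Cover.TorCheck Cfsg.Agent.Chevalley.Cover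

/-- The tables. -/
abbrev T : Tab := Cfsg.Agent.Chevalley.Data.G2.tab

theorem hC : Certified chevG2 T := Cfsg.Agent.Chevalley.Types.G2.certified

theorem hT : HasCerts T :=
  ⟨⟨_, Cfsg.Agent.Chevalley.Types.CoefG2.coef_ok⟩, ⟨_, Cfsg.Agent.Chevalley.Types.StCerts.conj_G2⟩⟩

/-- Separation by the torus. -/
noncomputable def sep (r s : ℕ) : Bool := (smallMode T 3 2 false).sep r s

/-- The pair is the image of the given one, in either order. -/
noncomputable def imgPair (a b : ℕ) (w : List ℕ) (r s : ℕ) : Bool :=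
  (Nat.beq (wLT T w a) r && Nat.beq (wLT T w b) s) ||
    (Nat.beq (wLT T w a) s && Nat.beq (wLT T w b) r)

/-- Two long roots at sixty degrees. -/
noncomputable def res60 (r s : ℕ) : Bool := anyL (fun w => imgPair 10 11 w r s) TorG2.words

/-- Two long roots with long sum `k`. -/
noncomputable def res120 (r s k : ℕ) : Bool :=
  anyL (fun w => imgPair 6 10 w r s && Nat.beq (wLT T w 11) k) TorG2.words

/-- A commutator word with one term, linear in both values and odd. -/
noncomputable def oneTerm (k : ℕ) (L : List (ℕ × ℤ × ℕ × ℕ)) : Bool :=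
  match L with
  | [(a, c, i, j)] => Nat.beq a k && (Nat.beq i 1 && (Nat.beq j 1 && !divB 2 c))
  | _ => false

/-- A root is an image of the short simple root or of the highest root. -/
noncomputable def selfImg (r : ℕ) : Bool :=
  anyL (fun w => Nat.beq (wLT T w 7) r || Nat.beq (wLT T w 11) r) TorG2.words

/-- The check. -/
noncomputable def chk : Bool :=
  allL (fun w => allL (fun i => Nat.blt i T.l) w) TorG2.words &&
    (allR T.n selfImg && allR T.n fun r => allR T.n fun s =>
      Nat.beq s r || (Nat.beq s (T.neg r) || (anyL (fun w => posW T w r && posW T w s) TorG2.words &&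
        ((sep r s && sep s r) ||
          ((allL (fun c => divB 2 c.2.1) (commOf T.E r s) && res60 r s) ||
            anyR T.n fun k => oneTerm k (commOf T.E r s) && res120 r s k)))))

theorem chk_ok : chk = true := by decide +kernel

theorem mov_ok : movChk T 3 = true := by decide +kernel

theorem words_lt {w : List ℕ} (hw : w ∈ TorG2.words) : ∀ i ∈ w, i < chevG2.rank := fun i hi => by
  have h := chk_ok
  simp only [chk, Bool.and_eq_true] at h
  simpa only [Nat.blt_eq, hC.l_eq] using of_allL (of_allL h.1 w hw) i hi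

theorem self_clause {r : ℕ} (hr : r < chevG2.nroots) :
    ∃ w ∈ TorG2.words, wLT T w 7 = r ∨ wLT T w 11 = r := by
  have h := chk_ok
  simp only [chk, Bool.and_eq_true] at h
  obtain ⟨w, hw, e⟩ := of_anyL (of_allR h.2.1 r (hC.n_eq ▸ hr))
  simp only [Bool.or_eq_true, Nat.beq_eq] at e
  exact ⟨w, hw, e⟩

theorem pair_clause {r s : ℕ} (hr : r < chevG2.nroots) (hs : s < chevG2.nroots) (hne : s ≠ r)
    (hnn : s ≠ chevG2.neg r) :
    anyL (fun w => posW T w r && posW T w s) TorG2.words = true ∧
      ((sep r s = true ∧ sep s r = true) ∨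
        ((∀ c ∈ chevG2.commTerms r s, divB 2 c.2.1 = true) ∧ res60 r s = true) ∨
        ∃ k c, chevG2.commTerms r s = [(k, c, 1, 1)] ∧ divB 2 c = false ∧ res120 r s k = true) := by
  have h := chk_ok
  simp only [chk, Bool.and_eq_true] at h
  have h := of_allR (of_allR h.2.2 r (hC.n_eq ▸ hr)) s (hC.n_eq ▸ hs)
  simp only [Bool.or_eq_true, Nat.beq_eq, hC.neg_eq hr, hne, hnn, false_or, Bool.and_eq_true,
    commOf_eq hC hr hs] at h
  refine ⟨h.1, h.2.imp id (Or.imp (fun h' => ⟨fun c hc => of_allL h'.1 c hc, h'.2⟩) fun h' => ?_)⟩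
  obtain ⟨k, -, hk⟩ := of_anyR h'
  simp only [Bool.and_eq_true] at hk
  obtain ⟨h1, h2⟩ := hk
  unfold oneTerm at h1
  split at h1
  · rename_i a c i j heq
    simp only [Bool.and_eq_true, Nat.beq_eq, Bool.not_eq_true'] at h1
    obtain ⟨ha, hi, hj, hc⟩ := h1
    subst ha hi hj
    exact ⟨_, c, heq, hc, h2⟩
  · exact absurd h1 (by simp)

end Cfsg.Agent.G2FourMult
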