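import Cfsg.Agent.Lib.G2FourMult.Upper
import Cfsg.Prelude.Def_KGroupFacts

/-!
# The kernel of a stem extension of G2(4)

It is generated by the commutator of the lifts of two elements of a short root subgroup.
-/

set_option autoImplicit false
set_option maxHeartbeats 0

open scoped commutatorElement

namespace Cfsg.Agent.G2FourMult

open Cfsg.Lie Cfsg.Agent.Chevalley Cfsg.Agent.Chevalley.Cert Cfsg.Agent.Chevalley.Group
  Cfsg.Agent.Chevalley.Cover Cfsg.Agent.Chevalley.Relations Cfsg.Agent.Chevalley.Perfect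
  Cfsg.Agent.Chevalley.Borel Cfsg.Agent.Chevalley.StKernel Cfsg.Agent.Chevalley.StUnip

universe u

variable {F : Type u} [Field F] [Fintype F] (hF : Fintype.card F = 4)
include hF

/-- The map of the cover to the group is bijective. -/
theorem exists_theta : ∃ θ : chevG2.SteinbergCover F →* ↥(chevG2.group F), Function.Bijective θ ∧
    ∀ r < chevG2.nroots, ∀ t, (θ (chevG2.scGen F r t) : GL chevG2.Idx F) = xg hC r t := by
  haveI : Finite F := Finite.of_fintype F
  obtain ⟨e, -⟩ := K2.exists_iso (F := F) hC hT K2.sym_G2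
  have hrange := th_range (Sys.scSys (F := F) hC)
  let θ : chevG2.SteinbergCover F →* ↥(chevG2.group F) :=
    (Sys.th hC).codRestrict _ fun x => hrange ▸ ⟨x, rfl⟩
  refine ⟨θ, ⟨?_, ?_⟩, fun r hr t => Sys.th_gen hC r hr t⟩
  · refine (MonoidHom.ker_eq_bot_iff θ).1 ?_
    rw [MonoidHom.ker_codRestrict, eq_bot_iff]
    intro x hx
    have h2 : e x ∈ Subgroup.center (chevG2.SteinbergGroup F) := Subgroup.mem_center_iff.2 fun y => by
      obtain ⟨y, rfl⟩ := e.surjective y
      rw [← map_mul, ← map_mul,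
        Subgroup.mem_center_iff.1 (StKernel.ker_le_center (Sys.scSys (F := F) hC) hT hx) y]
    rw [StSteinberg.center_eq_bot hC hT
      (M' := Cfsg.Agent.Chevalley.Types.OrderG2.Q * Cfsg.Agent.Chevalley.Types.OrderG2.P)
      (by decide +kernel), Subgroup.mem_bot] at h2
    exact Subgroup.mem_bot.2 (e.injective (h2.trans (map_one e).symm))
  · rintro ⟨y, hy⟩
    rw [← hrange] at hy
    obtain ⟨x, hx⟩ := hy
    exact ⟨x, Subtype.ext hx⟩

/-- The kernel of a stem extension is generated by an involution or trivial. -/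
theorem kernel_gen {Γ : Type u} [Group Γ] [Finite Γ] {σ : Γ →* ↥(chevG2.group F)}
    (hσ : IsStemExtension σ) : ∃ z ∈ σ.ker, z ^ 2 = 1 ∧ σ.ker ≤ Subgroup.zpowers z := by
  obtain ⟨hs, hc, hd⟩ := hσ
  haveI := SmallFields.charP_four hF
  obtain ⟨w, -, -, hw⟩ := exists_unit hF
  have hr7 : 7 < chevG2.nroots := by decide
  obtain ⟨a, ha⟩ := hs ⟨_, xg_mem_group hC hr7 (1 : F)⟩
  obtain ⟨b, hb⟩ := hs ⟨_, xg_mem_group hC hr7 (w : F)⟩
  let Φ : Γ →* GL chevG2.Idx F := (chevG2.group F).subtype.comp σ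
  have hΦk : Φ.ker = σ.ker :=
    MonoidHom.ker_comp_of_injective (f := σ) (g := (chevG2.group F).subtype) Subtype.val_injective
  have hΦc : Φ.ker ≤ Subgroup.center Γ := hΦk ▸ hc
  have hΦG : chevG2.group F ≤ Φ.range := fun g hg => by
    obtain ⟨x, hx⟩ := hs ⟨g, hg⟩
    exact ⟨x, congrArg Subtype.val hx⟩
  have hA : Φ a = xg hC 7 1 := congrArg Subtype.val ha
  have hB : Φ b = xg hC 7 (w : F) := congrArg Subtype.val hb
  have hzk : ⁅a, b⁆ ∈ σ.ker := by
    rw [← hΦk, MonoidHom.mem_ker, map_commutatorElement, hA, hB, commutatorElement_eq_one_iff_mul_comm,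
      ← xg_add hC, ← xg_add hC, add_comm]
  set z := ⁅a, b⁆
  have hz2 : z ^ 2 = 1 := by
    have hb2 : b * b ∈ σ.ker := by
      rw [← hΦk, MonoidHom.mem_ker, map_mul, hB, ← xg_add hC, CharTwo.add_self_eq_zero, xg_zero hC]
    have h := Lift.comm_mul_right a b b
    rw [commutatorElement_eq_one_iff_mul_comm.2 (Subgroup.mem_center_iff.1 (hc hb2) a),
      Subgroup.mem_center_iff.1 (hc hzk) b, mul_inv_cancel_right] at h
    rw [pow_two]; exact h.symm
  refine ⟨z, hzk, hz2, ?_⟩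
  let N := Subgroup.zpowers z
  haveI : N.Normal := ⟨fun n hn g => by
    rw [Subgroup.mem_center_iff.1 (hc (Subgroup.zpowers_le.2 hzk hn)) g, mul_inv_cancel_right]; exact hn⟩
  let π : Γ →* Γ ⧸ N := QuotientGroup.mk' N
  have hπ : Function.Surjective π := QuotientGroup.mk'_surjective N
  let σ' : Γ ⧸ N →* ↥(chevG2.group F) := QuotientGroup.lift N σ (Subgroup.zpowers_le.2 hzk)
  let Ψ : Γ ⧸ N →* GL chevG2.Idx F := (chevG2.group F).subtype.comp σ'
  have hΨ : ∀ x, Ψ (π x) = Φ x := fun _ => rfl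
  have hΨc : Ψ.ker ≤ Subgroup.center (Γ ⧸ N) := by
    intro x hx
    obtain ⟨x, rfl⟩ := hπ x
    refine Subgroup.mem_center_iff.2 fun g => ?_
    obtain ⟨g, rfl⟩ := hπ g
    rw [← map_mul, ← map_mul, Subgroup.mem_center_iff.1 (hΦc (show Φ x = 1 from hx)) g]
  have hΨG : chevG2.group F ≤ Ψ.range := fun g hg => by
    obtain ⟨x, hx⟩ := hΦG hg
    exact ⟨π x, hx⟩
  have hab : Commute (π a) (π b) := by
    rw [commute_iff_eq, ← commutatorElement_eq_one_iff_mul_comm, ← map_commutatorElement]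
    exact (QuotientGroup.eq_one_iff _).2 (Subgroup.mem_zpowers z)
  have hrep : ∀ t : F, ∃ x, Ψ x = xg hC 7 t ∧ Commute x (π a) ∧ Commute x (π b) ∧
      (x = 1 ∨ x = π a ∨ x = π b ∨ x = π a * π b) := by
    intro t
    rcases hw t with rfl | rfl | rfl | rfl
    · exact ⟨1, by rw [map_one, xg_zero hC], Commute.one_left _, Commute.one_left _, Or.inl rfl⟩
    · exact ⟨π a, by rw [hΨ, hA], Commute.refl _, hab, Or.inr (Or.inl rfl)⟩
    · exact ⟨π b, by rw [hΨ, hB], hab.symm, Commute.refl _, Or.inr (Or.inr (Or.inl rfl))⟩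
    · exact ⟨π a * π b, by rw [map_mul, hΨ, hΨ, hA, hB, ← xg_add hC],
        (Commute.refl _).mul_left hab.symm, hab.mul_left (Commute.refl _),
        Or.inr (Or.inr (Or.inr rfl))⟩
  have hbase : ∀ {x y : Γ ⧸ N} {t u : F}, Ψ x = xg hC 7 t → Ψ y = xg hC 7 u → Commute x y := by
    intro x y t u hx hy
    obtain ⟨x', hx', xa, xb, -⟩ := hrep t
    obtain ⟨y', hy', -, -, hy4⟩ := hrep u
    obtain ⟨p, hp, rfl⟩ := Lift.exists_central (π := Ψ) (hx.trans hx'.symm)
    obtain ⟨q, hq, rfl⟩ := Lift.exists_central (π := Ψ) (hy.trans hy'.symm)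
    refine Commute.mul_left (Lift.comm_central hΨc hp _)
      (Commute.mul_right (Commute.symm (Lift.comm_central hΨc hq _)) ?_)
    rcases hy4 with rfl | rfl | rfl | rfl
    exacts [Commute.one_right _, xa, xb, xa.mul_right xb]
  obtain ⟨X, hX, hXv⟩ := exists_rels hF hΨc hΨG hbase
  obtain ⟨τ, hτ⟩ := Sys.exists_hom hC hX
  obtain ⟨θ, hθ, hθv⟩ := exists_theta hF
  have hστ : σ'.comp τ = θ := Sys.scHom_ext fun r hr t => Subtype.ext (by
    rw [hθv r hr t, ← hXv r hr t, ← hτ r hr t]; rfl)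
  have hσ' : IsStemExtension σ' := by
    refine ⟨fun g => ?_, ?_, ?_⟩
    · obtain ⟨x, hx⟩ := hs g
      exact ⟨π x, hx⟩
    · intro x hx
      exact hΨc (MonoidHom.mem_ker.2 (by simp [Ψ, MonoidHom.mem_ker.1 hx]))
    · intro x hx
      obtain ⟨x, rfl⟩ := hπ x
      have := Subgroup.mem_map_of_mem π (hd (show σ x = 1 from hx))
      rwa [commutator_def, Subgroup.map_commutator, Subgroup.map_top_of_surjective _ hπ,
        ← commutator_def] at this
  obtain ⟨p, hp⟩ := Multiplier.stem_kernel_image θ hθ.2 hσ' hστ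
  intro x hx
  obtain ⟨⟨c, hck⟩, hc'⟩ := hp ⟨π x, show σ x = 1 from hx⟩
  rw [MonoidHom.mem_ker] at hck
  have hc1 : (⟨c, hck⟩ : θ.ker) = 1 := Subtype.ext (hθ.1 (hck.trans (map_one θ).symm))
  rw [hc1, map_one] at hc'
  exact (QuotientGroup.eq_one_iff x).1 (congrArg Subtype.val hc').symm

end Cfsg.Agent.G2FourMult
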