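import Cfsg.Agent.Lib.G2FourMult.KernelGen
import Cfsg.Agent.Lib.G2FourMult.AllRows
import Cfsg.Agent.Lib.Chevalley.Types.SimpleG2

/-!
# The double cover of G2(4)

Monomial permutations satisfy the relations of the presented group up to the central element.
-/

set_option autoImplicit false
set_option maxRecDepth 20000
set_option maxHeartbeats 0

open scoped commutatorElement

namespace Cfsg.Agent.G2FourMult

open Cfsg.Lie Cfsg.Agent.Chevalley Cfsg.Agent.Chevalley.Cert Cfsg.Agent.Chevalley.Check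
  Cfsg.Agent.Chevalley.Perfect Cfsg.Agent.Chevalley.Relations Cfsg.Agent.Chevalley.Cover Mono

theorem sh_lt {s : ℕ} (hs : s < 8064) (k : ℕ) : sh k s < 8064 := by unfold sh; omega

theorem sh_sh (a b s : ℕ) : sh a (sh b s) = sh (a + b) s := by unfold sh; omega

theorem sh_decomp (s : ℕ) : sh (s % 4) (4 * (s / 4)) = s := by unfold sh; omega

theorem gen_spec {g : ℕ} (hg : g < 38) : (∀ s < 8064, app (gen g) s < 8064) ∧
    ∀ s < 8064, times (gen g) (ord g) s = s := by
  have h := fun x (hx : x < 2016) => pts_spec (pts_spec gens_ok g hg) x hx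
  simp only [Bool.and_eq_true, decide_eq_true_eq, beq_iff_eq] at h
  refine ⟨fun s hs => ?_, fun s hs => ?_⟩
  · unfold app
    exact sh_lt (h (s / 4) (by omega)).1 _
  · have key : ∀ n k t, times (gen g) n (sh k t) = sh k (times (gen g) n t) := by
      intro n
      induction n with
      | zero => intro k t; rfl
      | succ n ih => intro k t; simp only [times, ih, app_sh]
    conv_lhs => rw [← sh_decomp s]
    rw [key, (h (s / 4) (by omega)).2, sh_decomp]

theorem times_lt {g : ℕ} (hg : g < 38) : ∀ n, ∀ s < 8064, times (gen g) n s < 8064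
  | 0, _, hs => hs
  | n + 1, s, hs => (gen_spec hg).1 _ (times_lt hg n s hs)

theorem times_succ (P : ℕ) : ∀ n s, times P n (app P s) = times P (n + 1) s
  | 0, _ => rfl
  | n + 1, s => congrArg (app P) (times_succ P n s)

theorem ord_pos (g : ℕ) : 0 < ord g := by unfold ord; split <;> [skip; split] <;> omega

/-- The permutation of a generator. -/
def Q (g : Fin 38) : Equiv.Perm (Fin 8064) where
  toFun s := ⟨app (gen g) s, (gen_spec g.2).1 s s.2⟩
  invFun s := ⟨times (gen g) (ord g - 1) s, times_lt g.2 _ s s.2⟩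
  left_inv s := Fin.ext (by
    show times (gen g) (ord g - 1) (app (gen g) s) = s
    rw [times_succ, Nat.sub_add_cancel (ord_pos g)]
    exact (gen_spec g.2).2 s s.2)
  right_inv s := Fin.ext (by
    show times (gen g) (ord g - 1 + 1) s = s
    rw [Nat.sub_add_cancel (ord_pos g)]
    exact (gen_spec g.2).2 s s.2)

/-- The central permutation. -/
def Z : Equiv.Perm (Fin 8064) :=
  Function.Involutive.toPerm (fun s => ⟨sh 2 s, sh_lt s.2 2⟩) fun s => Fin.ext (by
    show sh 2 (sh 2 s) = s
    unfold sh; omega)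

theorem Z_comm (g : Fin 38) : Q g * Z = Z * Q g :=
  Equiv.ext fun s => Fin.ext (app_sh (gen g) 2 s)

theorem Z_sq : Z * Z = 1 := Equiv.ext fun s => Fin.ext (show sh 2 (sh 2 s) = s by unfold sh; omega)

theorem Z_pow_apply : ∀ (e : ℕ) (s : Fin 8064), (((Z ^ e) s : Fin 8064) : ℕ) = sh (2 * e) s
  | 0, s => by simp [sh]; omega
  | e + 1, s => by
    rw [pow_succ', Equiv.Perm.mul_apply]
    show sh 2 ((Z ^ e) s : Fin 8064) = _
    rw [Z_pow_apply e s, sh_sh]
    congr 1
    omega

theorem ev_sh : ∀ (l : List ℕ) (k s : ℕ), ev l (sh k s) = sh k (ev l s)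
  | [], _, _ => rfl
  | a :: l, k, s => by
    show app a (ev l (sh k s)) = _
    rw [ev_sh l k s, app_sh]
    rfl

theorem side_spec {l r : List ℕ} {e : ℕ} (h : sideOK (l, r, e) = true) {s : ℕ} (hs : s < 8064) :
    ev l s = sh (2 * e) (ev r s) := by
  have := pts_spec h (s / 4) (by omega)
  simp only [beq_iff_eq] at this
  conv_lhs => rw [← sh_decomp s]
  rw [ev_sh, this, sh_sh, Nat.add_comm, ← sh_sh, ← ev_sh, sh_decomp]

/-- The generator of a number below 38. -/
def Qn (g : ℕ) : Equiv.Perm (Fin 8064) := if h : g < 38 then Q ⟨g, h⟩ else 1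

theorem prod_apply : ∀ (w : List ℕ), (∀ g ∈ w, g < 38) → ∀ s : Fin 8064,
    (((w.map Qn).prod s : Fin 8064) : ℕ) = ev (w.map gen) s
  | [], _, _ => rfl
  | g :: w, h, s => by
    have hg : g < 38 := h g List.mem_cons_self
    rw [List.map_cons, List.prod_cons, Equiv.Perm.mul_apply, show Qn g = Q ⟨g, hg⟩ from dif_pos hg]
    show app (gen g) _ = _
    rw [prod_apply w (fun x hx => h x (List.mem_cons_of_mem _ hx)) s]
    rfl

/-- The group generated by the permutations. -/
def S : Subgroup (Equiv.Perm (Fin 8064)) := Subgroup.closure (Set.range Q)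

/-- A generator as an element of the group. -/
def QS (g : ℕ) : ↥S :=
  if h : g < 38 then ⟨Q ⟨g, h⟩, Subgroup.subset_closure ⟨_, rfl⟩⟩ else 1

theorem QS_val (g : ℕ) : (QS g : Equiv.Perm (Fin 8064)) = Qn g := by
  unfold QS Qn; split <;> simp

theorem row_eq {w w' : List ℕ} {e : ℕ} (hw : ∀ g ∈ w, g < 38) (hw' : ∀ g ∈ w', g < 38)
    (h : sideOK (w.map gen, w'.map gen, e) = true) :
    (w.map Qn).prod = Z ^ e * (w'.map Qn).prod := by
  refine Equiv.ext fun s => Fin.ext ?_
  rw [Equiv.Perm.mul_apply, Z_pow_apply, prod_apply w hw, prod_apply w' hw']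
  exact side_spec h s.2

/-- The letters of a word. -/
def letters (w : List (ℕ × ℕ)) : List ℕ := (w.filter fun p => !(p.2 == 0)).map fun p => letter p.1 p.2

theorem letters_gen (w : List (ℕ × ℕ)) : (letters w).map gen = pack w := by
  simp [letters, pack, List.map_map, Function.comp_def]

theorem letters_lt {w : List (ℕ × ℕ)} (h : ∀ p ∈ w, p.1 < 12 ∧ p.2 < 4) : ∀ g ∈ letters w, g < 38 := by
  intro g hg
  simp only [letters, List.mem_map, List.mem_filter] at hg
  obtain ⟨p, ⟨hp, -⟩, rfl⟩ := hg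
  obtain ⟨h1, h2⟩ := h p hp
  unfold letter
  omega

theorem exists_zero {w w' : List ℕ} (hw : ∀ g ∈ w, g < 38) (hw' : ∀ g ∈ w', g < 38) {e : ℕ}
    (h : sideOK (w.map gen, w'.map gen, e) = true) :
    ∃ c ∈ Subgroup.zpowers Z, (w.map Qn).prod = c * (w'.map Qn).prod :=
  ⟨_, Subgroup.npow_mem_zpowers Z e, row_eq hw hw' h⟩

theorem row_short {r a b : ℕ} (h : hasRow [0, r, a, b] = true) :
    ∃ e, sideOK (sideOf [0, r, a, b, e]) = true := by
  simp only [hasRow, List.any_eq_true, List.contains_iff_mem] at h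
  obtain ⟨e, -, he⟩ := h
  exact ⟨e, row_ok _ he⟩

theorem row_long {k a b c d : ℕ} (h : hasRow [k, a, b, c, d] = true) :
    ∃ e, sideOK (sideOf [k, a, b, c, d, e]) = true := by
  simp only [hasRow, List.any_eq_true, List.contains_iff_mem] at h
  obtain ⟨e, -, he⟩ := h
  exact ⟨e, row_ok _ he⟩

theorem row_tor {i r v : ℕ} (h : hasRow [3, i, r, v] = true) :
    ∃ e, sideOK (sideOf [3, i, r, v, e]) = true := by
  simp only [hasRow, List.any_eq_true, List.contains_iff_mem] at h
  obtain ⟨e, -, he⟩ := h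
  exact ⟨e, row_ok _ he⟩

theorem row_word {i : ℕ} (h : hasRow [4, i] = true) : ∃ e, sideOK (sideOf [4, i, e]) = true := by
  simp only [hasRow, List.any_eq_true, List.contains_iff_mem] at h
  obtain ⟨e, -, he⟩ := h
  exact ⟨e, row_ok _ he⟩

theorem Qn_comm_Z (g : ℕ) : Qn g * Z = Z * Qn g := by
  unfold Qn
  split
  · exact Z_comm _
  · simp

theorem Z_ne : Z ≠ 1 := fun h => by
  have h1 : ((Z 0 : Fin 8064) : ℕ) = 0 := by rw [h]; rfl
  revert h1
  decide +kernel

theorem short_noncomm : ∃ e, Qn (letter 7 1) * Qn (letter 7 2) = Z ^ e * (Qn (letter 7 2) * Qn (letter 7 1)) ∧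
    Qn (letter 7 1) * Qn (letter 7 2) ≠ Qn (letter 7 2) * Qn (letter 7 1) := by
  have hc := cover_ok
  simp only [coverOK, Bool.and_eq_true] at hc
  have hr := pts_spec hc.1 7 (by norm_num)
  simp only [Bool.and_eq_true, List.all_eq_true] at hr
  obtain ⟨e, he⟩ := row_short (hr.1.1 1 (by simp [units]) 2 (by simp [units]))
  obtain ⟨e', he'⟩ := row_short (hr.1.1 2 (by simp [units]) 1 (by simp [units]))
  have h1 := row_eq (w := letters [(7, 1), (7, 2)]) (w' := letters [(7, 3)]) (e := e)
    (letters_lt (by decide)) (letters_lt (by decide)) (by rw [letters_gen, letters_gen]; exact he)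
  have h2 := row_eq (w := letters [(7, 2), (7, 1)]) (w' := letters [(7, 3)]) (e := e')
    (letters_lt (by decide)) (letters_lt (by decide)) (by rw [letters_gen, letters_gen]; exact he')
  simp [letters] at h1 h2
  refine ⟨e + e', ?_, fun h => ?_⟩
  · have hz : ∀ n : ℕ, Z ^ n * Z ^ n = 1 := fun n => by rw [← (Commute.refl Z).mul_pow, Z_sq, one_pow]
    rw [pow_add, h2, ← mul_assoc, mul_assoc (Z ^ e), hz, mul_one, h1]
  · have h3 : (((Qn (letter 7 1) * Qn (letter 7 2)) 0 : Fin 8064) : ℕ) =
        (((Qn (letter 7 2) * Qn (letter 7 1)) 0 : Fin 8064) : ℕ) := by rw [h]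
    simp only [Qn, dif_pos (show letter 7 1 < 38 by decide), dif_pos (show letter 7 2 < 38 by decide),
      Equiv.Perm.mul_apply] at h3
    revert h3
    decide +kernel

theorem Z_in_S : Z ∈ S := by
  obtain ⟨e, h, hne⟩ := short_noncomm
  have hq : ∀ g, Qn g ∈ S := fun g => (QS_val g) ▸ (QS g).2
  have he : Z ^ e = Z := by
    rcases Nat.even_or_odd e with ⟨k, rfl⟩ | ⟨k, rfl⟩
    · refine absurd ?_ hne
      rw [h, ← two_mul, pow_mul, pow_two, Z_sq, one_pow, one_mul]
    · rw [pow_succ, pow_mul, pow_two, Z_sq, one_pow, one_mul]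
  rw [he] at h
  rw [show Z = Qn (letter 7 1) * Qn (letter 7 2) * (Qn (letter 7 2) * Qn (letter 7 1))⁻¹ by
    rw [h, mul_inv_cancel_right]]
  exact mul_mem (mul_mem (hq _) (hq _)) (inv_mem (mul_mem (hq _) (hq _)))

/-- The central element in the group. -/
def ZS : ↥S := ⟨Z, Z_in_S⟩

/-- The central subgroup. -/
def K : Subgroup ↥S := Subgroup.zpowers ZS

theorem K_le_center : K ≤ Subgroup.center ↥S := by
  rw [K, Subgroup.zpowers_le, Subgroup.mem_center_iff]
  rintro ⟨p, hp⟩
  refine Subtype.ext ?_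
  show p * Z = Z * p
  induction hp using Subgroup.closure_induction with
  | mem p hp => obtain ⟨g, rfl⟩ := hp; exact Z_comm g
  | one => simp
  | mul a b _ _ ha hb => exact (Commute.mul_left (show Commute a Z from ha) hb).eq
  | inv a _ ha => exact (Commute.inv_left (show Commute a Z from ha)).eq

instance : K.Normal :=
  ⟨fun n hn g => by rw [Subgroup.mem_center_iff.1 (K_le_center hn) g, mul_inv_cancel_right]; exact hn⟩

theorem card_K : Nat.card K = 2 := by
  rw [K, Nat.card_zpowers, ← orderOf_injective S.subtype S.subtype_injective]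
  haveI := Fact.mk Nat.prime_two
  exact orderOf_eq_prime (by rw [pow_two]; exact Z_sq) Z_ne

theorem ZS_mem : ZS ∈ commutator ↥S := by
  obtain ⟨e, h, hne⟩ := short_noncomm
  have he : Z ^ e = Z := by
    rcases Nat.even_or_odd e with ⟨k, rfl⟩ | ⟨k, rfl⟩
    · refine absurd ?_ hne
      rw [h, ← two_mul, pow_mul, pow_two, Z_sq, one_pow, one_mul]
    · rw [pow_succ, pow_mul, pow_two, Z_sq, one_pow, one_mul]
  rw [he] at h
  rw [show ZS = ⁅QS (letter 7 1), QS (letter 7 2)⁆ by
    refine Subtype.ext ?_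
    show Z = _
    simp only [commutatorElement_def, Subgroup.coe_mul, Subgroup.coe_inv, QS_val]
    rw [h]; group]
  exact Subgroup.commutator_mem_commutator (Subgroup.mem_top _) (Subgroup.mem_top _)

/-- The image of a generator. -/
noncomputable def img (g : ℕ) : ↥S ⧸ K := QuotientGroup.mk' K (QS g)

/-- The image of a root element numbered `v`. -/
noncomputable def Xn (r v : ℕ) : ↥S ⧸ K := if v = 0 then 1 else img (letter r v)

theorem img_eq {w w' : List ℕ} (hw : ∀ g ∈ w, g < 38) (hw' : ∀ g ∈ w', g < 38) {e : ℕ}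
    (h : sideOK (w.map gen, w'.map gen, e) = true) : (w.map img).prod = (w'.map img).prod := by
  have h1 := row_eq hw hw' h
  have hval : ∀ v : List ℕ, (((v.map QS).prod : ↥S) : Equiv.Perm (Fin 8064)) = (v.map Qn).prod := by
    intro v
    induction v with
    | nil => rfl
    | cons a v ih => rw [List.map_cons, List.map_cons, List.prod_cons, List.prod_cons, Subgroup.coe_mul, ih, QS_val]
  have h2 : (w.map QS).prod = ZS ^ e * (w'.map QS).prod := Subtype.ext (by
    rw [Subgroup.coe_mul, hval, hval, h1]; rfl)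
  have := congrArg (QuotientGroup.mk' K) h2
  rw [map_mul, map_pow, map_list_prod, map_list_prod, List.map_map, List.map_map,
    show QuotientGroup.mk' K ZS = 1 from (QuotientGroup.eq_one_iff _).2 (Subgroup.mem_zpowers _),
    one_pow, one_mul] at this
  exact this

theorem letters_prod : ∀ w : List (ℕ × ℕ), ((letters w).map img).prod = (w.map fun p => Xn p.1 p.2).prod
  | [] => rfl
  | (r, v) :: w => by
    rw [List.map_cons, List.prod_cons, ← letters_prod w]
    by_cases hv : v = 0
    · simp [letters, hv, Xn]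
    · simp [letters, hv, Xn]

theorem pairs_eq {w w' : List (ℕ × ℕ)} (hw : ∀ p ∈ w, p.1 < 12 ∧ p.2 < 4)
    (hw' : ∀ p ∈ w', p.1 < 12 ∧ p.2 < 4) {e : ℕ} (h : sideOK (pack w, pack w', e) = true) :
    (w.map fun p => Xn p.1 p.2).prod = (w'.map fun p => Xn p.1 p.2).prod := by
  rw [← letters_prod, ← letters_prod]
  exact img_eq (letters_lt hw) (letters_lt hw') (e := e) (by rwa [letters_gen, letters_gen])

theorem cover_r {r : ℕ} (hr : r < 12) :
    (∀ a ∈ units, ∀ b ∈ units, hasRow [0, r, a, b] = true) ∧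
      (∀ i < 2, ∀ v ∈ units, hasRow [3, i, r, v] = true) := by
  have hc := cover_ok
  simp only [coverOK, Bool.and_eq_true] at hc
  have h := pts_spec hc.1 r hr
  simp only [Bool.and_eq_true, List.all_eq_true] at h
  exact ⟨h.1.1, fun i hi v hv => List.all_eq_true.1 (pts_spec h.1.2 i hi) v hv⟩

theorem xor_lt : ∀ a < 4, ∀ b < 4, Nat.xor a b < 4 := by decide +kernel

theorem mul4_lt : ∀ a < 4, ∀ b < 4, mul4 a b < 4 ∧ (a ≠ 0 → b ≠ 0 → mul4 a b ≠ 0) := by decide +kernel

theorem chi_ok : ∀ i < 2, ∀ r < 12, chi i r < 4 ∧ chi i r ≠ 0 := by decide +kernel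

theorem Xn_add {r : ℕ} (hr : r < 12) {a b : ℕ} (ha : a < 4) (hb : b < 4) :
    Xn r (Nat.xor a b) = Xn r a * Xn r b := by
  by_cases ha0 : a = 0
  · subst ha0
    rw [show Nat.xor 0 b = b from Nat.zero_xor b]; simp [Xn]
  by_cases hb0 : b = 0
  · subst hb0
    rw [show Nat.xor a 0 = a from Nat.xor_zero a]; simp [Xn]
  have hmem : ∀ v < 4, v ≠ 0 → v ∈ units := by decide
  obtain ⟨e, he⟩ := row_short ((cover_r hr).1 a (hmem a ha ha0) b (hmem b hb hb0))
  have hlt : ∀ p ∈ [(r, a), (r, b)], p.1 < 12 ∧ p.2 < 4 := by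
    intro p hp
    simp only [List.mem_cons, List.not_mem_nil, or_false] at hp
    rcases hp with rfl | rfl <;> exact ⟨hr, by assumption⟩
  have hlt' : ∀ p ∈ [(r, Nat.xor a b)], p.1 < 12 ∧ p.2 < 4 := by
    intro p hp
    simp only [List.mem_singleton] at hp
    subst hp
    exact ⟨hr, xor_lt a ha b hb⟩
  simpa using (pairs_eq hlt hlt' (e := e) he).symm

theorem tor_conj {i r v : ℕ} (hi : i < 2) (hr : r < 12) (hv : v < 4) :
    img (36 + i) * Xn r v * (img (36 + i))⁻¹ = Xn r (mul4 (chi i r) v) := by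
  obtain ⟨hc1, hc2⟩ := chi_ok i hi r hr
  by_cases hv0 : v = 0
  · subst hv0
    have : mul4 (chi i r) 0 = 0 := by simp [mul4]
    simp [Xn, this]
  have hmem : ∀ v < 4, v ≠ 0 → v ∈ units := by decide
  obtain ⟨e, he⟩ := row_tor ((cover_r hr).2 i hi v (hmem v hv hv0))
  obtain ⟨hm1, hm2⟩ := mul4_lt _ hc1 v hv
  have hl1 : letter r v < 38 := by unfold letter; omega
  have hl2 : letter r (mul4 (chi i r) v) < 38 := by unfold letter; omega
  have h := img_eq (w := [36 + i, letter r v]) (w' := [letter r (mul4 (chi i r) v), 36 + i]) (e := e)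
    (by simp; omega) (by simp; omega) (by simpa [sideOf] using he)
  simp only [List.map_cons, List.map_nil, List.prod_cons, List.prod_nil, mul_one] at h
  rw [mul_inv_eq_iff_eq_mul]
  simpa [Xn, hv0, hm2 hc2 hv0] using h

theorem act_conj : ∀ (c : List ℕ), (∀ i ∈ c, i < 2) → ∃ g : ↥S ⧸ K, ∀ r < 12, ∀ v < 4,
    act c r v < 4 ∧ g * Xn r v * g⁻¹ = Xn r (act c r v)
  | [], _ => ⟨1, fun r _ v hv => ⟨hv, by simp [act]⟩⟩
  | i :: c, h => by
    obtain ⟨g, hg⟩ := act_conj c fun j hj => h j (List.mem_cons_of_mem _ hj)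
    refine ⟨img (36 + i) * g, fun r hr v hv => ?_⟩
    obtain ⟨h1, h2⟩ := hg r hr v hv
    have hi := h i List.mem_cons_self
    refine ⟨(mul4_lt _ (chi_ok i hi r hr).1 _ h1).1, ?_⟩
    show _ = Xn r (mul4 (chi i r) (act c r v))
    rw [← tor_conj hi hr h1, ← h2]
    group

theorem terms_ok : ∀ r < 12, ∀ s < 12, ((commOf T.E r s).all fun c =>
    decide (c.1 < 12) && decide (1 ≤ c.2.2.1) && decide (1 ≤ c.2.2.2)) = true := by decide +kernel

theorem pow4_lt (a : ℕ) (ha : a < 4) : ∀ n, pow4 a n < 4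
  | 0 => by simp [pow4]
  | n + 1 => (mul4_lt _ (pow4_lt a ha n) a ha).1

theorem wordV_lt {r s t u : ℕ} (hr : r < 12) (hs : s < 12) (ht : t < 4) (hu : u < 4) :
    ∀ p ∈ wordV r s t u, p.1 < 12 ∧ p.2 < 4 := by
  intro p hp
  simp only [wordV, List.mem_map] at hp
  obtain ⟨c, hc, rfl⟩ := hp
  have := List.all_eq_true.1 (terms_ok r hr s hs) c hc
  simp only [Bool.and_eq_true, decide_eq_true_eq] at this
  refine ⟨this.1.1, ?_⟩
  dsimp only
  split
  · norm_num
  · exact (mul4_lt _ (pow4_lt t ht _) _ (pow4_lt u hu _)).1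

/-- The relation of a pair. -/
def RelN (r s t u : ℕ) : Prop :=
  Xn s u * Xn r t = Xn r t * Xn s u * ((wordV r s t u).map fun p => Xn p.1 p.2).prod

theorem relN_all {r s : ℕ} (hr : r < 12) (hs : s < 12) (hne : s ≠ r) (hnn : s ≠ T.neg r) {t u : ℕ}
    (ht : t < 4) (hu : u < 4) (ht0 : t ≠ 0) (hu0 : u ≠ 0) : RelN r s t u := by
  have hc := cover_ok
  simp only [coverOK, Bool.and_eq_true] at hc
  have h := pts_spec hc.1 r hr
  simp only [Bool.and_eq_true] at h
  have hp := pts_spec h.2 s hs
  simp only [Bool.or_eq_true, Bool.and_eq_true, beq_iff_eq, hne, hnn, false_or, Nat.ble_eq,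
    List.all_eq_true] at hp
  -- the rows of commuting pairs
  have empty : ∀ {a b : ℕ}, a < 12 → b < 12 →
      (∀ x ∈ [1, 2], ∀ y ∈ [1, 2], hasRow [1, a, b, x, y] = true) →
      ∀ x < 4, ∀ y < 4, Commute (Xn b y) (Xn a x) := by
    intro a b ha hb hrow
    have base : ∀ x ∈ [1, 2], ∀ y ∈ [1, 2], Commute (Xn b y) (Xn a x) := by
      intro x hx y hy
      obtain ⟨e, he⟩ := row_long (hrow x hx y hy)
      have hx4 : x < 4 := by simp at hx; omega
      have hy4 : y < 4 := by simp at hy; omega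
      have := pairs_eq (w := [(b, y), (a, x)]) (w' := [(a, x), (b, y)]) (e := e)
        (by intro p hp; simp only [List.mem_cons, List.not_mem_nil, or_false] at hp
            rcases hp with rfl | rfl
            exacts [⟨hb, hy4⟩, ⟨ha, hx4⟩])
        (by intro p hp; simp only [List.mem_cons, List.not_mem_nil, or_false] at hp
            rcases hp with rfl | rfl
            exacts [⟨ha, hx4⟩, ⟨hb, hy4⟩]) (by simpa [sideOf] using he)
      simpa [Commute, SemiconjBy] using this
    have z0 : ∀ c, Xn c 0 = 1 := fun c => by simp [Xn]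
    have three : ∀ c < 12, Xn c 3 = Xn c 1 * Xn c 2 := fun c hc => Xn_add hc (a := 1) (b := 2) (by norm_num) (by norm_num)
    intro x hx y hy
    have step : ∀ y ∈ [1, 2], Commute (Xn b y) (Xn a x) := by
      intro y hy
      interval_cases x
      · rw [z0]; exact Commute.one_right _
      · exact base 1 (by simp) y hy
      · exact base 2 (by simp) y hy
      · rw [three a ha]; exact (base 1 (by simp) y hy).mul_right (base 2 (by simp) y hy)
    interval_cases y
    · rw [z0]; exact Commute.one_left _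
    · exact step 1 (by simp)
    · exact step 2 (by simp)
    · rw [three b hb]; exact (step 1 (by simp)).mul_left (step 2 (by simp))
  have zero_word : (∀ c ∈ commOf T.E r s, Nat.mod c.2.1.natAbs 2 = 0) →
      ((wordV r s t u).map fun p => Xn p.1 p.2).prod = 1 := fun hz => List.prod_eq_one fun g hg => by
    obtain ⟨p, hp, rfl⟩ := List.mem_map.1 hg
    simp only [wordV, List.mem_map] at hp
    obtain ⟨c, hc, rfl⟩ := hp
    simp [Xn, hz c hc]
  have hmem : ∀ v < 4, v ≠ 0 → v ∈ units := by decide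
  rcases hp with (⟨hle, hz⟩ | ⟨hz, hrow⟩) | hrow
  · -- the other order
    have hlt : s < r := lt_of_le_of_ne hle hne
    have h' := pts_spec hc.1 s hs
    simp only [Bool.and_eq_true] at h'
    have hp' := pts_spec h'.2 r hr
    have hnn' : r ≠ T.neg s := by
      intro e
      apply hnn
      rw [e]
      have h1 := hC.neg_eq hs
      have h2 := hC.neg_eq (hC.neg_lt hs)
      have h3 := hC.neg_neg hs
      rw [h1, h2, h3]
    simp only [Bool.or_eq_true, Bool.and_eq_true, beq_iff_eq, Ne.symm hne, hnn', false_or, Nat.ble_eq,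
      List.all_eq_true, not_le.2 hlt, false_and] at hp'
    rw [RelN, zero_word hz, mul_one]
    rcases hp' with ⟨-, hrow⟩ | hrow
    · exact (empty hs hr hrow u hu t ht).symm.eq
    · obtain ⟨c, hcm, hc'⟩ := List.any_eq_true.1 (hrow u (hmem u hu hu0) t (hmem t ht ht0))
      exfalso
      obtain ⟨t0, ht0', hc''⟩ := List.any_eq_true.1 hc'
      obtain ⟨u0, hu0', hc'''⟩ := List.any_eq_true.1 hc''
      simp only [Bool.and_eq_true] at hc'''
      have key : (allRows.all fun q => !(q.getD 0 9 == 2) ||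
          !((commOf T.E (q.getD 2 0) (q.getD 1 0)).all fun c => Nat.mod c.2.1.natAbs 2 == 0)) = true := by
        decide +kernel
      have hrow2 := hc'''.1.2
      simp only [hasRow, List.any_eq_true, List.contains_iff_mem] at hrow2
      obtain ⟨e, -, he⟩ := hrow2
      have hk := List.all_eq_true.1 key _ he
      simp only [List.cons_append, List.nil_append, List.getD_cons_zero, List.getD_cons_succ, beq_self_eq_true,
        Bool.not_true, Bool.false_or, Bool.not_eq_true', ← Bool.not_eq_true] at hk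
      exact hk (by simpa [List.all_eq_true] using hz)
  · rw [RelN, zero_word hz, mul_one]
    exact (empty hr hs hrow t ht u hu).eq
  · obtain ⟨c, hcm, hc'⟩ := List.any_eq_true.1 (hrow t (hmem t ht ht0) u (hmem u hu hu0))
    obtain ⟨t0, ht0', hc''⟩ := List.any_eq_true.1 hc'
    obtain ⟨u0, hu0', hc'''⟩ := List.any_eq_true.1 hc''
    simp only [Bool.and_eq_true, beq_iff_eq] at hc'''
    obtain ⟨⟨⟨e1, e2⟩, hr2⟩, e3⟩ := hc'''
    have hu4 : ∀ v ∈ units, v < 4 := by decide
    have hmv : ∀ c ∈ Mono.moves, ∀ i ∈ c, i < 2 := by decide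
    obtain ⟨e, he⟩ := row_long hr2
    have hw := wordV_lt hr hs (hu4 t0 ht0') (hu4 u0 hu0')
    have h0 := pairs_eq (w := [(s, u0), (r, t0)]) (w' := [(r, t0), (s, u0)] ++ wordV r s t0 u0) (e := e)
      (by intro p hp; simp only [List.mem_cons, List.not_mem_nil, or_false] at hp
          rcases hp with rfl | rfl
          exacts [⟨hs, hu4 u0 hu0'⟩, ⟨hr, hu4 t0 ht0'⟩])
      (by intro p hp; simp only [List.mem_append, List.mem_cons, List.not_mem_nil, or_false] at hp
          rcases hp with (rfl | rfl) | hp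
          exacts [⟨hr, hu4 t0 ht0'⟩, ⟨hs, hu4 u0 hu0'⟩, hw p hp]) (by simpa [sideOf] using he)
    simp only [List.map_cons, List.map_nil, List.prod_cons, List.prod_nil, mul_one, List.map_append,
      List.prod_append] at h0
    obtain ⟨g, hg⟩ := act_conj c (hmv c hcm)
    have hw2 : ((wordV r s t u).map fun p => Xn p.1 p.2).prod =
        g * ((wordV r s t0 u0).map fun p => Xn p.1 p.2).prod * g⁻¹ := by
      rw [← e3, List.map_map, ← MulAut.conj_apply, map_list_prod, List.map_map]
      exact congrArg List.prod (List.map_congr_left fun p hp => ((hg p.1 (hw p hp).1 p.2 (hw p hp).2).2).symm)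
    rw [RelN, hw2, ← e1, ← e2, ← (hg r hr t0 (hu4 t0 ht0')).2, ← (hg s hs u0 (hu4 u0 hu0')).2]
    calc g * Xn s u0 * g⁻¹ * (g * Xn r t0 * g⁻¹) = g * (Xn s u0 * Xn r t0) * g⁻¹ := by group
      _ = _ := by rw [h0]; group

theorem wordV_zero {r s : ℕ} (hr : r < 12) (hs : s < 12) {t u : ℕ} (h : t = 0 ∨ u = 0) :
    ((wordV r s t u).map fun p => Xn p.1 p.2).prod = 1 := by
  refine List.prod_eq_one fun g hg => ?_
  obtain ⟨p, hp, rfl⟩ := List.mem_map.1 hg
  simp only [wordV, List.mem_map] at hp
  obtain ⟨c, hc, rfl⟩ := hp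
  have := List.all_eq_true.1 (terms_ok r hr s hs) c hc
  simp only [Bool.and_eq_true, decide_eq_true_eq] at this
  obtain ⟨⟨-, h1⟩, h2⟩ := this
  obtain ⟨i, hi⟩ := Nat.exists_eq_succ_of_ne_zero (show c.2.2.1 ≠ 0 by omega)
  obtain ⟨j, hj⟩ := Nat.exists_eq_succ_of_ne_zero (show c.2.2.2 ≠ 0 by omega)
  rcases h with rfl | rfl <;> simp [Xn, hi, hj, pow4, mul4]

theorem relN {r s : ℕ} (hr : r < 12) (hs : s < 12) (hne : s ≠ r) (hnn : s ≠ T.neg r) {t u : ℕ}
    (ht : t < 4) (hu : u < 4) : RelN r s t u := by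
  by_cases h : t = 0 ∨ u = 0
  · rw [RelN, wordV_zero hr hs h, mul_one]
    rcases h with rfl | rfl <;> simp [Xn]
  · push_neg at h
    exact relN_all hr hs hne hnn ht hu h.1 h.2

universe u

variable {F : Type u} [Field F] [Fintype F]

/-- The numbering of the field elements. -/
def toF (w : F) : ℕ → F := fun v => [0, 1, w, 1 + w].getD v 0

theorem numbering (hF : Fintype.card F = 4) : ∃ w : F, (∀ t : F, ∃ v < 4, t = toF w v) ∧
    (∀ a < 4, ∀ b < 4, toF w a = toF w b → a = b) ∧
    (∀ a < 4, ∀ b < 4, toF w (Nat.xor a b) = toF w a + toF w b) ∧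
    ∀ a < 4, ∀ b < 4, toF w (mul4 a b) = toF w a * toF w b := by
  haveI := SmallFields.charP_four hF
  obtain ⟨g, hgo, hg1, hall⟩ := exists_unit hF
  have h0 : (g : F) ≠ 0 := g.ne_zero
  have hadd : ∀ x : F, x + x = 0 := CharTwo.add_self_eq_zero
  have h11 : (1 : F) + g ≠ 0 := fun e => hg1 (by
    rw [← neg_eq_self hF (g : F)]; exact (eq_neg_of_add_eq_zero_left e).symm)
  have h2 : (g : F) * g = 1 + g := by
    have hg2 : (g : F) * g ≠ 1 := fun e => by
      have : g ^ 2 = 1 := Units.ext (by rw [pow_two, Units.val_mul, Units.val_one, e])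
      have := orderOf_dvd_of_pow_eq_one this
      rw [hgo] at this
      omega
    rcases hall ((g : F) * g) with e | e | e | e
    · exact absurd e (mul_ne_zero h0 h0)
    · exact absurd e hg2
    · exact absurd ((mul_eq_left₀ h0).1 e) hg1
    · exact e
  refine ⟨g, fun t => ?_, ?_, ?_, ?_⟩
  · rcases hall t with e | e | e | e
    exacts [⟨0, by norm_num, e⟩, ⟨1, by norm_num, e⟩, ⟨2, by norm_num, e⟩, ⟨3, by norm_num, e⟩]
  · intro a ha b hb
    interval_cases a <;> interval_cases b <;> simp [toF, h0, h11, hg1, Ne.symm h0, Ne.symm h11, Ne.symm hg1]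
  · intro a ha b hb
    interval_cases a <;> interval_cases b <;> simp [toF, hadd] <;> grind
  · intro a ha b hb
    interval_cases a <;> interval_cases b <;> simp [toF, mul4, h2] <;> grind

/-- The cover. -/
theorem exists_cover (hF : Fintype.card F = 4) :
    ∃ (E : Type) (_ : Group E) (_ : Finite E) (σ : E →* ↥(chevG2.group F)),
      IsStemExtension σ ∧ Nat.card σ.ker = 2 := by
  classical
  haveI := SmallFields.charP_four hF
  obtain ⟨w, hsurj, hinj, hxor, hmul⟩ := numbering hF
  choose num hnum hval using hsurj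
  have num_toF : ∀ v < 4, num (toF w v) = v := fun v hv => hinj _ (hnum _) v hv (hval _).symm
  let X : ℕ → F → ↥S ⧸ K := fun r t => Xn r (num t)
  have hX : Sys.Rels chevG2 X := by
    refine ⟨fun r hr t u => ?_, fun r hr s hs hne hnn t u => ?_⟩
    · show Xn r (num (t + u)) = Xn r (num t) * Xn r (num u)
      rw [← Xn_add hr (hnum t) (hnum u)]
      congr 1
      conv_lhs => rw [hval t, hval u, ← hxor _ (hnum t) _ (hnum u)]
      exact num_toF _ (xor_lt _ (hnum t) _ (hnum u))
    · have h := relN (r := r) (s := s) hr hs hne (by rw [hC.neg_eq hr]; exact hnn) (hnum t) (hnum u)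
      refine h.trans (congrArg (fun z => Xn r (num t) * Xn s (num u) * z) (congrArg List.prod ?_))
      rw [ChevalleyDatum.commWord, List.map_map, wordV, List.map_map, commOf_eq hC hr hs]
      refine List.map_congr_left fun c hc => ?_
      show Xn c.1 _ = Xn c.1 (num _)
      congr 1
      have hpow : ∀ a < 4, ∀ n, toF w (pow4 a n) = toF w a ^ n := by
        intro a ha n
        induction n with
        | zero => simp [pow4, toF]
        | succ n ih => rw [pow4, hmul _ (pow4_lt a ha n) a ha, ih, pow_succ]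
      dsimp only
      split
      · rename_i hev
        have : (c.2.1 : F) = 0 :=
          (CharP.intCast_eq_zero_iff F 2 _).2 (Int.natCast_dvd.2 (Nat.dvd_of_mod_eq_zero hev))
        rw [this, zero_mul, zero_mul, show (0 : F) = toF w 0 from rfl]
        exact (num_toF 0 (by norm_num)).symm
      · rename_i hodd
        have : (c.2.1 : F) = 1 := odd_cast hF (Bool.eq_false_iff.2 fun h => hodd (Nat.eq_of_beq_eq_true h))
        rw [this, one_mul]
        simp only [neg_eq_self hF]
        conv_rhs => rw [hval t, hval u, ← hpow _ (hnum t), ← hpow _ (hnum u),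
          ← hmul _ (pow4_lt _ (hnum t) _) _ (pow4_lt _ (hnum u) _)]
        symm
        exact num_toF _ (mul4_lt _ (pow4_lt _ (hnum t) _) _ (pow4_lt _ (hnum u) _)).1
  obtain ⟨θ, hθ, hθv⟩ := exists_theta hF
  obtain ⟨f, hf⟩ := Sys.exists_hom hC hX
  have hXn : ∀ r < 12, ∀ v < 4, Xn r v ∈ f.range := fun r hr v hv =>
    ⟨chevG2.scGen F r (toF w v), by rw [hf r hr]; show Xn r (num (toF w v)) = _; rw [num_toF v hv]⟩
  have hsurj : Function.Surjective f := by
    rw [← MonoidHom.range_eq_top, eq_top_iff]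
    have hgen : ∀ g : Fin 38, QuotientGroup.mk' K ⟨Q g, Subgroup.subset_closure ⟨g, rfl⟩⟩ ∈ f.range := by
      intro g
      rw [show (⟨Q g, Subgroup.subset_closure ⟨g, rfl⟩⟩ : ↥S) = QS g from
        Subtype.ext (by rw [QS_val, Qn, dif_pos g.2])]
      show img g ∈ f.range
      by_cases h : g.1 < 36
      · have e : img g = Xn (g.1 / 3) (g.1 % 3 + 1) := by
          rw [Xn, if_neg (by omega)]
          congr 1
          unfold letter; omega
        rw [e]
        exact hXn _ (by omega) _ (by omega)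
      · have hc := cover_ok
        simp only [coverOK, Bool.and_eq_true] at hc
        obtain ⟨i, hi, hgi⟩ : ∃ i < 2, (g : ℕ) = 36 + i := ⟨g - 36, by omega, by omega⟩
        obtain ⟨e, he⟩ := row_word (pts_spec hc.2 i hi)
        have hlt : ∀ p ∈ torWord i, p.1 < 12 ∧ p.2 < 4 :=
          (by decide +kernel : ∀ i < 2, ∀ p ∈ torWord i, p.1 < 12 ∧ p.2 < 4) i hi
        have := img_eq (w := [36 + i]) (w' := letters (torWord i)) (e := e) (by simp; omega)
          (letters_lt hlt) (by rw [letters_gen]; simpa [sideOf] using he)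
        rw [letters_prod] at this
        simp only [List.map_cons, List.map_nil, List.prod_cons, List.prod_nil, mul_one] at this
        rw [hgi, this]
        exact list_prod_mem fun x hx => by
          obtain ⟨p, hp, rfl⟩ := List.mem_map.1 hx
          exact hXn _ (hlt p hp).1 _ (hlt p hp).2
    rintro q -
    obtain ⟨⟨p, hp⟩, rfl⟩ := QuotientGroup.mk'_surjective K q
    induction hp using Subgroup.closure_induction with
    | mem p hp => obtain ⟨g, rfl⟩ := hp; exact hgen g
    | one => exact (map_one (QuotientGroup.mk' K)).symm ▸ one_mem _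
    | mul a b ha hb iha ihb =>
      have := mul_mem iha ihb
      rwa [← map_mul] at this
    | inv a ha iha =>
      have := inv_mem iha
      rwa [← map_inv] at this
  let e := MulEquiv.ofBijective θ hθ
  let ψ : ↥(chevG2.group F) →* ↥S ⧸ K := f.comp e.symm.toMonoidHom
  have hψ : Function.Surjective ψ := hsurj.comp e.symm.surjective
  obtain ⟨g, -, hg1, -⟩ := exists_unit hF
  haveI := (Cfsg.Agent.Chevalley.Types.SimpleG2.simple_group F ⟨(g : F), g.ne_zero, hg1⟩).1
  have hinj' : Function.Injective ψ := by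
    refine (MonoidHom.ker_eq_bot_iff ψ).1 ((ψ.normal_ker.eq_bot_or_eq_top).resolve_right fun h => ?_)
    have h1 : img 0 = 1 := by
      obtain ⟨x, hx⟩ := hψ (img 0)
      rw [← hx]
      exact MonoidHom.mem_ker.1 (h ▸ Subgroup.mem_top x)
    have h2 : QS 0 ∈ K := (QuotientGroup.eq_one_iff _).1 h1
    obtain ⟨i, hi⟩ := Subgroup.mem_zpowers_iff.1 h2
    have h3 : Z ^ i = Qn 0 := by rw [← QS_val 0, ← hi]; rfl
    have hcomm : Qn 0 * Qn (letter 6 1) = Qn (letter 6 1) * Qn 0 := by
      rw [← h3]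
      exact ((show Commute (Qn (letter 6 1)) Z from Qn_comm_Z _).zpow_right i).symm.eq
    have h4 : (((Qn 0 * Qn (letter 6 1)) 0 : Fin 8064) : ℕ) =
        (((Qn (letter 6 1) * Qn 0) 0 : Fin 8064) : ℕ) := by rw [hcomm]
    simp only [Qn, dif_pos (show letter 6 1 < 38 by decide), dif_pos (show 0 < 38 by decide),
      Equiv.Perm.mul_apply] at h4
    revert h4
    decide +kernel
  let E0 := MulEquiv.ofBijective ψ ⟨hinj', hψ⟩
  have hker : (E0.symm.toMonoidHom.comp (QuotientGroup.mk' K)).ker = K := by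
    ext a
    simp [MonoidHom.mem_ker]
  refine ⟨↥S, inferInstance, inferInstance, E0.symm.toMonoidHom.comp (QuotientGroup.mk' K),
    ⟨E0.symm.surjective.comp (QuotientGroup.mk'_surjective K), ?_, ?_⟩, ?_⟩
  · rw [hker]; exact K_le_center
  · rw [hker, K, Subgroup.zpowers_le]; exact ZS_mem
  · rw [hker]; exact card_K

end Cfsg.Agent.G2FourMult
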