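import Cfsg.Agent.Lib.G2FourMult.Lower

/-!
# The multiplier of G2(4)
-/

set_option autoImplicit false
set_option maxHeartbeats 4000000

namespace Cfsg.Agent.G2FourMult

open Cfsg.Lie

universe u

variable {F : Type u} [Field F] [Fintype F] (hF : Fintype.card F = 4)
include hF

/-- The Schur multiplier of G2(4) is cyclic of order two. -/
theorem multiplier : HasCyclicSchurMultiplier ↥(chevG2.group F) 2 := by
  refine ⟨?_, fun Γ _ _ σ hσ => ?_⟩
  · obtain ⟨E, _, _, σ, hσ, hcard⟩ := exists_cover hF
    haveI := Fact.mk Nat.prime_two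
    haveI : IsCyclic σ.ker := isCyclic_of_prime_card hcard
    let d : ULift.{u} E ≃* E := MulEquiv.ulift
    refine ⟨ULift.{u} E, inferInstance, inferInstance, σ.comp d.toMonoidHom, ⟨?_, ?_, ?_⟩, ⟨?_⟩⟩
    · exact hσ.1.comp d.surjective
    · intro x hx
      exact Subgroup.mem_center_iff.2 fun g => d.injective (by
        rw [map_mul, map_mul]; exact Subgroup.mem_center_iff.1 (hσ.2.1 hx) _)
    · intro x hx
      have h := Subgroup.mem_map_of_mem d.symm.toMonoidHom (hσ.2.2 (show d x ∈ σ.ker from hx))
      rw [commutator_def, Subgroup.map_commutator, Subgroup.map_top_of_surjective _ d.symm.surjective,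
        ← commutator_def] at h
      simpa using h
    · exact ({ toFun := fun x => ⟨d x.1, x.2⟩
               invFun := fun y => ⟨d.symm y.1, by simp [MonoidHom.mem_ker, MonoidHom.mem_ker.1 y.2]⟩
               left_inv := fun x => Subtype.ext (d.symm_apply_apply x.1)
               right_inv := fun y => by simp
               map_mul' := fun x y => Subtype.ext (map_mul d x.1 y.1) } : (σ.comp d.toMonoidHom).ker ≃* σ.ker).trans
        (mulEquivOfCyclicCardEq (hcard.trans (by simp)))
  · obtain ⟨z, hzk, hz2, hle⟩ := kernel_gen hF hσ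
    let e : σ.ker := ⟨z, hzk⟩
    have he : e ^ 2 = 1 := Subtype.ext hz2
    let π : Multiplicative (ZMod 2) →* σ.ker :=
      MonoidHom.mk' (fun t => e ^ t.toAdd.val) fun s t => by
        change e ^ (s.toAdd + t.toAdd).val = e ^ s.toAdd.val * e ^ t.toAdd.val
        rw [← pow_add, ZMod.val_add, ← pow_eq_pow_mod _ he]
    refine ⟨π, fun x => ?_⟩
    obtain ⟨k, hk⟩ := Subgroup.mem_zpowers_iff.1 (hle x.2)
    refine ⟨Multiplicative.ofAdd (1 : ZMod 2) ^ k, ?_⟩
    rw [map_zpow, show π (Multiplicative.ofAdd 1) = e from pow_one e]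
    exact Subtype.ext hk

end Cfsg.Agent.G2FourMult
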