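import Cfsg.Agent.Lib.G2FourMult.Data
import Cfsg.Agent.Lib.Chevalley.Check
import Cfsg.Agent.Lib.Chevalley.Data.G2
import Cfsg.Agent.Lib.Chevalley.Perfect

/-!
# The checks on the monomial permutations

The states are `4 x + k`; every generator commutes with the shift of `k`, so two products agree as
soon as they agree at the multiples of four.
-/

set_option autoImplicit false

namespace Cfsg.Agent.G2FourMult.Mono

open Cfsg.Agent.Chevalley.Check Cfsg.Agent.Chevalley.Table

/-- The tables of the root system. -/
abbrev T : Tab := Cfsg.Agent.Chevalley.Data.G2.tab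

/-- The shift. -/
def sh (k s : ℕ) : ℕ := 4 * (s / 4) + (s + k) % 4

/-- The image of a state. -/
def app (P s : ℕ) : ℕ := sh s ((P >>> (13 * (s / 4))) % 8192)

theorem app_sh (P k s : ℕ) : app P (sh k s) = sh k (app P s) := by
  have h : sh k s / 4 = s / 4 := by unfold sh; omega
  unfold app
  rw [h]
  unfold sh
  omega

/-- The packed generator. -/
def gen (g : ℕ) : ℕ := Data.gens.getD g 0

/-- All points. -/
def pts (p : ℕ → Bool) : ℕ → Bool
  | 0 => true
  | n + 1 => p n && pts p n

theorem pts_spec {p : ℕ → Bool} : ∀ {n : ℕ}, pts p n = true → ∀ i < n, p i = true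
  | 0, _, i, h => absurd h (Nat.not_lt_zero i)
  | n + 1, h, i, hi => by
    simp only [pts, Bool.and_eq_true] at h
    rcases Nat.lt_succ_iff_lt_or_eq.1 hi with hi | rfl
    · exact pts_spec h.2 i hi
    · exact h.1

/-- Repeated application. -/
def times (P : ℕ) : ℕ → ℕ → ℕ
  | 0, s => s
  | n + 1, s => app P (times P n s)

/-- A multiple of the order of a generator. -/
def ord (g : ℕ) : ℕ := if g < 36 then 4 else if g = 36 then 6 else 3

/-- One generator has the stated period. -/
def genOK (g : ℕ) : Bool :=
  pts (fun x => decide ((gen g >>> (13 * x)) % 8192 < 8064) && times (gen g) (ord g) (4 * x) == 4 * x) 2016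

/-- Evaluation of a product at a state. -/
def ev (l : List ℕ) (s : ℕ) : ℕ := l.foldr app s

/-- Both sides agree up to the central element. -/
def sideOK (q : List ℕ × List ℕ × ℕ) : Bool :=
  pts (fun x => ev q.1 (4 * x) == sh (2 * q.2.2) (ev q.2.1 (4 * x))) 2016

/-- All sides agree. -/
def sidesOK : List (List ℕ × List ℕ × ℕ) → Bool
  | [] => true
  | q :: l => sideOK q && sidesOK l

/-- Multiplication of the four field elements numbered `0, 1, w, 1 + w`. -/
def mul4 (a b : ℕ) : ℕ := if a = 0 ∨ b = 0 then 0 else [1, 2, 3].getD (([0, 0, 1, 2].getD a 0 + [0, 0, 1, 2].getD b 0) % 3) 0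

/-- A power. -/
def pow4 (a : ℕ) : ℕ → ℕ
  | 0 => 1
  | n + 1 => mul4 (pow4 a n) a

/-- The scalar of a fundamental torus element on a root. -/
noncomputable def chi (i r : ℕ) : ℕ := [1, 2, 3].getD ((T.A i r) % 3).toNat 0

/-- The value moved by the torus element `c`. -/
noncomputable def act : List ℕ → ℕ → ℕ → ℕ
  | [], _, v => v
  | i :: l, r, v => mul4 (chi i r) (act l r v)

/-- The values of the commutator formula. -/
noncomputable def wordV (r s t u : ℕ) : List (ℕ × ℕ) :=
  (commOf T.E r s).map fun c =>
    (c.1, if (Nat.mod c.2.1.natAbs 2) = 0 then 0 else mul4 (pow4 t c.2.2.1) (pow4 u c.2.2.2))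

/-- The number of a root element. -/
def letter (r v : ℕ) : ℕ := 3 * r + v - 1

/-- The packed letters. -/
def pack (w : List (ℕ × ℕ)) : List ℕ := (w.filter fun p => !(p.2 == 0)).map fun p => gen (letter p.1 p.2)

/-- The word of a fundamental torus element. -/
noncomputable def torWord (i : ℕ) : List (ℕ × ℕ) :=
  let p := [7, 6].getD i 0
  [(p, 2), (T.neg p, 3), (p, 2), (p, 1), (T.neg p, 1), (p, 1)]

/-- The sides stated by a row. -/
noncomputable def sideOf : List ℕ → List ℕ × List ℕ × ℕ
  | [0, r, a, b, e] => (pack [(r, a), (r, b)], pack [(r, Nat.xor a b)], e)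
  | [1, r, s, t, u, e] => (pack [(s, u), (r, t)], pack [(r, t), (s, u)], e)
  | [2, r, s, t, u, e] => (pack [(s, u), (r, t)], pack ([(r, t), (s, u)] ++ wordV r s t u), e)
  | [3, i, r, v, e] => ([gen (36 + i), gen (letter r v)], [gen (letter r (mul4 (chi i r) v)), gen (36 + i)], e)
  | [4, i, e] => ([gen (36 + i)], pack (torWord i), e)
  | _ => ([], [], 0)

/-- The rows state the sides. -/
noncomputable def statedOK (rows : List (List ℕ)) (sides : List (List ℕ × List ℕ × ℕ)) : Bool :=
  rows.map sideOf == sides

theorem rowsOK {rows : List (List ℕ)} {sides : List (List ℕ × List ℕ × ℕ)}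
    (h1 : statedOK rows sides = true) (h2 : sidesOK sides = true) :
    ∀ q ∈ rows, sideOK (sideOf q) = true := by
  intro q hq
  simp only [statedOK, beq_iff_eq] at h1
  have key : ∀ {l : List (List ℕ × List ℕ × ℕ)}, sidesOK l = true → ∀ q ∈ l, sideOK q = true := by
    intro l
    induction l with
    | nil => simp
    | cons a l ih =>
      intro h q hq
      simp only [sidesOK, Bool.and_eq_true] at h
      rcases List.mem_cons.1 hq with rfl | hq
      · exact h.1
      · exact ih h.2 q hq
  exact key h2 _ (h1 ▸ List.mem_map_of_mem hq)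

end Cfsg.Agent.G2FourMult.Mono
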