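import Cfsg.Agent.Lib.G2FourMult.Mono

/-! Relations of the monomial permutations, part 0. -/

set_option autoImplicit false
set_option maxRecDepth 20000
set_option maxHeartbeats 0
set_option Elab.async false

namespace Cfsg.Agent.G2FourMult.Mono

theorem stated_0 : statedOK Data.rows0 Data.sides0 = true := by decide +kernel

theorem sides_0 : sidesOK Data.sides0 = true := by decide +kernel

theorem stated_1 : statedOK Data.rows1 Data.sides1 = true := by decide +kernel

theorem sides_1 : sidesOK Data.sides1 = true := by decide +kernel

theorem stated_2 : statedOK Data.rows2 Data.sides2 = true := by decide +kernel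

theorem sides_2 : sidesOK Data.sides2 = true := by decide +kernel

theorem stated_3 : statedOK Data.rows3 Data.sides3 = true := by decide +kernel

theorem sides_3 : sidesOK Data.sides3 = true := by decide +kernel

theorem stated_4 : statedOK Data.rows4 Data.sides4 = true := by decide +kernel

theorem sides_4 : sidesOK Data.sides4 = true := by decide +kernel

theorem stated_5 : statedOK Data.rows5 Data.sides5 = true := by decide +kernel

theorem sides_5 : sidesOK Data.sides5 = true := by decide +kernel

theorem stated_6 : statedOK Data.rows6 Data.sides6 = true := by decide +kernel

theorem sides_6 : sidesOK Data.sides6 = true := by decide +kernel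

theorem stated_7 : statedOK Data.rows7 Data.sides7 = true := by decide +kernel

theorem sides_7 : sidesOK Data.sides7 = true := by decide +kernel

theorem part_0 : ∀ q ∈ List.flatten [Data.rows0, Data.rows1, Data.rows2, Data.rows3, Data.rows4, Data.rows5, Data.rows6, Data.rows7],
    sideOK (sideOf q) = true := by
  simp only [List.flatten_cons, List.flatten_nil, List.append_nil, List.forall_mem_append]
  exact ⟨rowsOK stated_0 sides_0, rowsOK stated_1 sides_1, rowsOK stated_2 sides_2, rowsOK stated_3 sides_3, rowsOK stated_4 sides_4, rowsOK stated_5 sides_5, rowsOK stated_6 sides_6, rowsOK stated_7 sides_7⟩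

end Cfsg.Agent.G2FourMult.Mono
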