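import Cfsg.Agent.Lib.G2FourMult.Checks

/-!
# Lifts of the root elements of G2(4)

When the lifts of one short root subgroup commute, so do all self pairs, and conjugating the short
simple root elements by the long ones gives the relations between the long ones. Hence the
normalised lifts satisfy the relations of the presented group.
-/

set_option autoImplicit false
set_option maxHeartbeats 0
set_option linter.unusedSectionVars false

open scoped Matrix commutatorElement

namespace Cfsg.Agent.G2FourMult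

open Cfsg.Lie Cfsg.Agent.Chevalley Cfsg.Agent.Chevalley.Eval Cfsg.Agent.Chevalley.Table
  Cfsg.Agent.Chevalley.Check Cfsg.Agent.Chevalley.Cert Cfsg.Agent.Chevalley.Group
  Cfsg.Agent.Chevalley.Perfect Cfsg.Agent.Chevalley.Relations Cfsg.Agent.Chevalley.StUnip
  Cfsg.Agent.Chevalley.StKernel Cfsg.Agent.Chevalley.Cover.TorLift
  Cfsg.Agent.Chevalley.Cover.TorCheck Cfsg.Agent.Chevalley.Cover.PartialUnip
  Cfsg.Agent.Chevalley.Cover

universe u

variable {F : Type u} [Field F] [Fintype F] (hF : Fintype.card F = 4)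
include hF

theorem two_eq_zero : (2 : F) = 0 := by
  haveI := SmallFields.charP_four hF
  exact CharP.cast_eq_zero F 2

theorem neg_eq_self (x : F) : -x = x := by
  haveI := SmallFields.charP_four hF
  exact CharTwo.neg_eq x

theorem odd_cast {c : ℤ} (h : divB 2 c = false) : (c : F) = 1 := by
  haveI := SmallFields.charP_four hF
  have h1 : c % 2 = 1 := by
    rcases Int.emod_two_eq c with e | e
    · exfalso
      have h2 : (c : F) = 0 :=
        (CharP.intCast_eq_zero_iff F 2 c).2 (Int.dvd_of_emod_eq_zero e)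
      rw [(TorClosed.small_char (F := F) (p := 2) c).2 h2] at h
      exact absurd h (by simp)
    · exact e
  rw [← Int.emod_add_mul_ediv c 2, h1, Int.cast_add, Int.cast_mul, Int.cast_one, Int.cast_ofNat,
    two_eq_zero hF, zero_mul, add_zero]

theorem exists_unit : ∃ g : Fˣ, orderOf g = 3 ∧ (g : F) ≠ 1 ∧
    ∀ t : F, t = 0 ∨ t = 1 ∨ t = (g : F) ∨ t = 1 + (g : F) := by
  classical
  obtain ⟨g, hg⟩ := IsCyclic.exists_generator (α := Fˣ)
  have hgo : orderOf g = 3 := by
    rw [orderOf_eq_card_of_forall_mem_zpowers hg, Nat.card_units, Nat.card_eq_fintype_card, hF]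
  have hg1 : (g : F) ≠ 1 := fun e => by
    rw [Units.val_eq_one.1 e, orderOf_one] at hgo
    omega
  refine ⟨g, hgo, hg1, fun t => ?_⟩
  have hg0 : (g : F) ≠ 0 := g.ne_zero
  have h2 : (1 : F) + g ≠ 0 := fun e => hg1 (by
    rw [← neg_eq_self hF (g : F)]; exact (eq_neg_of_add_eq_zero_left e).symm)
  have hcard : ({0, 1, (g : F), (1 : F) + (g : F)} : Finset F).card = 4 := by
    rw [Finset.card_insert_of_notMem, Finset.card_insert_of_notMem, Finset.card_insert_of_notMem,
      Finset.card_singleton]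
    · simp only [Finset.mem_singleton]
      intro e
      exact one_ne_zero (right_eq_add.1 e)
    · simp only [Finset.mem_insert, Finset.mem_singleton, not_or]
      exact ⟨Ne.symm hg1, fun e => hg0 (left_eq_add.1 e)⟩
    · simp only [Finset.mem_insert, Finset.mem_singleton, not_or]
      exact ⟨zero_ne_one, Ne.symm hg0, Ne.symm h2⟩
  have : t ∈ ({0, 1, (g : F), (1 : F) + (g : F)} : Finset F) := by
    rw [Finset.eq_univ_of_card _ (hcard.trans hF.symm)]
    exact Finset.mem_univ t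
  simpa [Finset.mem_insert] using this

theorem valid : TorClosed.Valid chevG2 F (smallMode T 3 2 false) := by
  haveI := SmallFields.charP_four hF
  obtain ⟨g, hg, -⟩ := exists_unit hF
  exact TorClosed.small_valid hC hg fun h => absurd h (by simp)

theorem sep_char {r s : ℕ} (hr : r < chevG2.nroots) (hs : s < chevG2.nroots) (hne : s ≠ r)
    (hnn : s ≠ chevG2.neg r) (h : sep r s = true) :
    ∃ c : ℕ → Fˣ, torChar chevG2 c r = 1 ∧ torChar chevG2 c s ≠ 1 :=
  (valid hF).sep r hr s hs hne hnn h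

theorem moves : ∀ r < chevG2.nroots, ∃ c : ℕ → Fˣ, torChar chevG2 c r ≠ 1 := by
  obtain ⟨g, hg, -⟩ := exists_unit hF
  exact TorClosed.small_move hC hg mov_ok

theorem eta_one (i r : ℕ) : (T.eta i r : F) = 1 := by
  rcases Certified.eta_cases (T := T) i r with e | e <;> simp [e, neg_eq_self hF]

theorem commWord_zero {r s : ℕ} (hz : ∀ c ∈ chevG2.commTerms r s, divB 2 c.2.1 = true) (t u : F) :
    ∀ e ∈ chevG2.commWord F r s t u, e.2 = 0 := by
  haveI := SmallFields.charP_four hF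
  intro e he
  simp only [ChevalleyDatum.commWord, List.mem_map] at he
  obtain ⟨d, hd, rfl⟩ := he
  show (d.2.1 : F) * _ * _ = 0
  rw [(TorClosed.small_char (F := F) (p := 2) d.2.1).1 (hz d hd), zero_mul, zero_mul]

theorem xg_commute {r s : ℕ} (hr : r < chevG2.nroots) (hs : s < chevG2.nroots) (hne : s ≠ r)
    (hnn : s ≠ chevG2.neg r) (hz : ∀ c ∈ chevG2.commTerms r s, divB 2 c.2.1 = true) (t u : F) :
    Commute (xg hC r t) (xg hC s u) := by
  have := Unip.xg_comm hC hr hs hne hnn t u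
  rw [List.prod_eq_one fun g hg => ?_, mul_one] at this
  · exact this.symm
  obtain ⟨e, he, rfl⟩ := List.mem_map.1 hg
  rw [commWord_zero hF hz t u e he, xg_zero hC]

variable {E : Type u} [Group E] {Ψ : E →* GL chevG2.Idx F} (hc : Ψ.ker ≤ Subgroup.center E)
  (hG : chevG2.group F ≤ Ψ.range)
  (hbase : ∀ {x y : E} {t u : F}, Ψ x = xg hC 7 t → Ψ y = xg hC 7 u → Commute x y)
include hc hG hbase

omit hbase in
/-- Lifts of commuting separated root elements commute. -/
theorem sep_com {r s : ℕ} (hr : r < chevG2.nroots) (hs : s < chevG2.nroots) (hne : s ≠ r)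
    (hnn : s ≠ chevG2.neg r) (hsep : sep r s = true)
    (hz : ∀ c ∈ chevG2.commTerms r s, divB 2 c.2.1 = true) {x y : E} {t u : F}
    (hx : Ψ x = xg hC r t) (hy : Ψ y = xg hC s u) : Commute x y := by
  obtain ⟨c, hcr, hcs⟩ := sep_char hF hr hs hne hnn hsep
  exact com_lift hC hc hG hr hs (xg_commute hF hr hs hne hnn hz) hcr hcs hx hy

omit hbase in
/-- The highest root is a commutator of two short ones. -/
theorem top_com {r : ℕ} (hr : r < chevG2.nroots)
    (h8 : sep r 8 = true ∧ 8 ≠ r ∧ 8 ≠ chevG2.neg r ∧ ∀ c ∈ chevG2.commTerms r 8, divB 2 c.2.1 = true)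
    (h9 : sep r 9 = true ∧ 9 ≠ r ∧ 9 ≠ chevG2.neg r ∧ ∀ c ∈ chevG2.commTerms r 9, divB 2 c.2.1 = true)
    {x y : E} {t u : F} (hx : Ψ x = xg hC r t) (hy : Ψ y = xg hC 11 u) : Commute x y := by
  haveI := SmallFields.charP_four hF
  obtain ⟨n8, n9, n11⟩ : 8 < chevG2.nroots ∧ 9 < chevG2.nroots ∧ 11 < chevG2.nroots :=
    ⟨by decide, by decide, by decide⟩
  obtain ⟨a, ha⟩ : ∃ a, a = pre Ψ (xg hC 9 u) := ⟨_, rfl⟩
  obtain ⟨b, hb⟩ : ∃ b, b = pre Ψ (xg hC 8 (1 : F)) := ⟨_, rfl⟩
  have ha' : Ψ a = xg hC 9 u := ha ▸ map_pre_x hC hG n9 _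
  have hb' : Ψ b = xg hC 8 1 := hb ▸ map_pre_x hC hG n8 _
  refine Lift.commute_bracket hc (a := a) (b := b) ?_ ?_ ?_
  · rw [map_commutatorElement, commutatorElement_eq_one_iff_mul_comm, hx, ha']
    exact xg_commute hF hr n9 h9.2.1 h9.2.2.1 h9.2.2.2 t u
  · rw [map_commutatorElement, commutatorElement_eq_one_iff_mul_comm, hx, hb']
    exact xg_commute hF hr n8 h8.2.1 h8.2.2.1 h8.2.2.2 t 1
  · have hterm : chevG2.commTerms 8 9 = [(11, 3, 1, 1)] := by decide +kernel
    have h := Unip.xg_comm hC n8 n9 (by decide) (by decide) (1 : F) u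
    simp only [ChevalleyDatum.commWord, hterm, List.map_cons, List.map_nil, List.prod_cons,
      List.prod_nil, mul_one, pow_one] at h
    have e1 : ((3 : ℤ) : F) * -1 * u = u := by
      rw [show ((3 : ℤ) : F) = 2 + 1 by norm_num, two_eq_zero hF, zero_add, one_mul, neg_eq_self hF,
        one_mul]
    rw [e1] at h
    have h8' : Commute (xg hC 8 (1 : F)) (xg hC 11 u) :=
      xg_commute hF n8 n11 (by decide) (by decide) (by decide +kernel) 1 u
    have h9' : Commute (xg hC 9 u) (xg hC 11 u) :=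
      xg_commute hF n9 n11 (by decide) (by decide) (by decide +kernel) u u
    have s8 : xg hC 8 (1 : F) * xg hC 8 1 = 1 := by
      rw [← xg_add hC, CharTwo.add_self_eq_zero, xg_zero hC]
    have s9 : xg hC 9 u * xg hC 9 u = 1 := by
      rw [← xg_add hC, CharTwo.add_self_eq_zero, xg_zero hC]
    rw [map_commutatorElement, ha', hb', hy, commutatorElement_def, inv_eq_of_mul_eq_one_right s8,
      inv_eq_of_mul_eq_one_right s9, h]
    symm
    calc xg hC 8 1 * xg hC 9 u * xg hC 11 u * xg hC 9 u * xg hC 8 1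
        = xg hC 8 1 * (xg hC 9 u * xg hC 9 u) * (xg hC 11 u * xg hC 8 1) := by
          rw [mul_assoc (xg hC 8 1 * xg hC 9 u) (xg hC 11 u), ← h9'.eq]; group
      _ = _ := by rw [s9, mul_one, ← h8'.eq, ← mul_assoc, s8, one_mul]

omit hbase in
/-- Conjugation by a lift of a simple reflection. -/
theorem exists_refl {i : ℕ} (hi : i < chevG2.rank) : ∃ g : E, ∀ r < chevG2.nroots, ∀ (t : F) {x : E},
    Ψ x = xg hC r t → Ψ (g * x * g⁻¹) = xg hC (chevG2.reflectRoot i r) t := by
  obtain ⟨g, hg⟩ : ∃ g, Ψ g = ng hC (chevG2.simple i) (1 : F) :=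
    hG (Borel.ng_mem_group hC (hC.simple_lt hi) 1)
  refine ⟨g, fun r hr t x hx => ?_⟩
  rw [map_mul, map_mul, map_inv, hg, hx, ng_conj_x hC hi hr, eta_one hF, one_mul]

omit hbase in
/-- Commuting of all lifts moves along the Weyl group. -/
theorem moved {a b : ℕ} (ha : a < chevG2.nroots) (hb : b < chevG2.nroots)
    (h : ∀ {x y : E} {t u : F}, Ψ x = xg hC a t → Ψ y = xg hC b u → Commute x y) {w : List ℕ}
    (hw : ∀ i ∈ w, i < chevG2.rank) : wLT T w a < chevG2.nroots ∧ wLT T w b < chevG2.nroots ∧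
    ∀ {x y : E} {t u : F}, Ψ x = xg hC (wLT T w a) t → Ψ y = xg hC (wLT T w b) u → Commute x y := by
  induction w with
  | nil => exact ⟨ha, hb, fun hx hy => h hx hy⟩
  | cons i w ih =>
    have hi := hw i List.mem_cons_self
    obtain ⟨h1, h2, ih⟩ := ih fun j hj => hw j (List.mem_cons_of_mem i hj)
    have e1 : wLT T (i :: w) a = chevG2.reflectRoot i (wLT T w a) := (hC.reflect_eq hi h1).symm
    have e2 : wLT T (i :: w) b = chevG2.reflectRoot i (wLT T w b) := (hC.reflect_eq hi h2).symm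
    rw [e1, e2]
    refine ⟨hC.reflect_lt hi h1, hC.reflect_lt hi h2, fun {x y t u} hx hy => ?_⟩
    obtain ⟨g, hg⟩ := exists_refl hF hc hG hi
    obtain ⟨x', hx'⟩ : ∃ x', Ψ x' = xg hC (wLT T w a) t := ⟨_, map_pre_x hC hG h1 t⟩
    obtain ⟨y', hy'⟩ : ∃ y', Ψ y' = xg hC (wLT T w b) u := ⟨_, map_pre_x hC hG h2 u⟩
    obtain ⟨z, hz, rfl⟩ := Lift.exists_central (π := Ψ) (hx.trans (hg _ h1 t hx').symm)
    obtain ⟨z', hz', rfl⟩ := Lift.exists_central (π := Ψ) (hy.trans (hg _ h2 u hy').symm)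
    refine Commute.mul_left (Lift.comm_central hc hz _)
      (Commute.mul_right (Commute.symm (Lift.comm_central hc hz' _)) ?_)
    have := ih hx' hy'
    show g * x' * g⁻¹ * (g * y' * g⁻¹) = g * y' * g⁻¹ * (g * x' * g⁻¹)
    calc g * x' * g⁻¹ * (g * y' * g⁻¹) = g * (x' * y') * g⁻¹ := by group
      _ = g * (y' * x') * g⁻¹ := by rw [this.eq]
      _ = _ := by group

theorem self_all : ∀ r < chevG2.nroots, ∀ {x y : E} {t u : F}, Ψ x = xg hC r t → Ψ y = xg hC r u →
    Commute x y := by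
  intro r hr x y t u hx hy
  obtain ⟨w, hw, e | e⟩ := self_clause hr
  · obtain ⟨-, -, hm⟩ := moved hF hc hG (a := 7) (b := 7) (by decide) (by decide)
      (fun hx hy => hbase hx hy) (words_lt hw)
    exact hm (e.symm ▸ hx) (e.symm ▸ hy)
  · obtain ⟨-, -, hm⟩ := moved hF hc hG (a := 11) (b := 11) (by decide) (by decide)
      (fun hx hy => top_com hF hc hG (by decide)
        ⟨by decide +kernel, by decide, by decide, by decide +kernel⟩
        ⟨by decide +kernel, by decide, by decide, by decide +kernel⟩ hx hy) (words_lt hw)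
    exact hm (e.symm ▸ hx) (e.symm ▸ hy)

omit hbase in
theorem res60_all {r s : ℕ} (h : res60 r s = true) {x y : E} {t u : F} (hx : Ψ x = xg hC r t)
    (hy : Ψ y = xg hC s u) : Commute x y := by
  obtain ⟨w, hw, h⟩ := of_anyL h
  obtain ⟨-, -, hm⟩ := moved hF hc hG (a := 10) (b := 11) (by decide) (by decide)
    (fun hx hy => top_com hF hc hG (by decide)
      ⟨by decide +kernel, by decide, by decide, by decide +kernel⟩
      ⟨by decide +kernel, by decide, by decide, by decide +kernel⟩ hx hy) (words_lt hw)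
  simp only [imgPair, Bool.or_eq_true, Bool.and_eq_true, Nat.beq_eq] at h
  rcases h with ⟨rfl, rfl⟩ | ⟨rfl, rfl⟩
  · exact hm hx hy
  · exact (hm hy hx).symm

variable {c0 : ℕ → ℕ → Fˣ} (h0 : ∀ r < chevG2.nroots, torChar chevG2 (c0 r) r ≠ 1)
include h0

local notation "Yn" => TorLift.Y hC Ψ c0

theorem Yn_add : ∀ r < chevG2.nroots, ∀ t u, Yn r (t + u) = Yn r t * Yn r u :=
  fun _ hr t u => Y_add hC hc hG h0 (self_all hF hc hG hbase) hr t u

omit hbase in
theorem Yn_map : ∀ r < chevG2.nroots, ∀ t, Ψ (Yn r t) = xg hC r t :=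
  fun _ hr t => map_Y hC hG h0 hr t

theorem Yn_inv {r : ℕ} (hr : r < chevG2.nroots) (t : F) : (Yn r t)⁻¹ = Yn r t := by
  rw [PartialUnip.Y_inv (Yn_add hF hc hG hbase h0) hr, neg_eq_self hF]

/-- The relations of the pairs above `b`, given those between long roots with long sum. -/
theorem known_from {w : List ℕ} (hw : ∀ i ∈ w, i < chevG2.rank) (b0 : ℕ)
    (hsum : ∀ r < chevG2.nroots, ∀ s < chevG2.nroots, b0 ≤ wL chevG2 w r → b0 ≤ wL chevG2 w s →
      ∀ k c, chevG2.commTerms r s = [(k, c, 1, 1)] → divB 2 c = false → res120 r s k = true →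
        ∀ t u, Yn s u * Yn r t = Yn r t * Yn s u * Yn k (t * u)) :
    ∀ b, b0 ≤ b → Known chevG2 T Yn w b := by
  suffices key : ∀ k b, chevG2.nroots ≤ b + k → b0 ≤ b → Known chevG2 T Yn w b from
    fun b => key chevG2.nroots b (by omega)
  intro k
  induction k with
  | zero =>
    intro b hb _ r hr s hs _ _ _ har
    have := wL_lt hC hw hr
    omega
  | succ k ih =>
    intro b hbk hb0 r hr s hs hne hpr hps har has t u
    by_cases h1 : b + 1 ≤ wL chevG2 w r ∧ b + 1 ≤ wL chevG2 w s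
    · exact ih (b + 1) (by omega) (by omega) r hr s hs hne hpr hps h1.1 h1.2 t u
    have hnn : s ≠ chevG2.neg r := by
      rintro rfl
      rw [gW, wL_neg hC hw hr, hC.phi_neg (wL_lt hC hw hr)] at hps
      rw [gW] at hpr
      omega
    have hadd := Yn_add hF hc hG hbase h0
    have hY := Yn_map hF hc hG h0
    rcases (pair_clause hr hs hne hnn).2 with ⟨hsep, hsep'⟩ | ⟨hz, hd⟩ | ⟨k', c, hk, hck, hd⟩
    · have hne' : wL chevG2 w r ≠ wL chevG2 w s := fun e => hne (wL_injective hC hw hr hs e).symm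
      have hconj : ∀ r < chevG2.nroots, ∀ (c : ℕ → Fˣ) (g : E), Ψ g = tor chevG2 c → ∀ t,
          g * Yn r t * g⁻¹ = Yn r ((torChar chevG2 c r : F) * t) :=
        fun r hr c g hg t => conj_Y hC hc hG hr hg t
      rcases Nat.lt_or_ge (wL chevG2 w r) (wL chevG2 w s) with h | h
      · obtain ⟨c, hcr, hcs⟩ := sep_char hF hr hs hne hnn hsep
        exact (TorStep.step hC hc hG hY hadd hconj hw hr hs hne hpr hps h hcr hcs
          (ih _ (by omega) (by omega)) t u).1
      · have hnn' : r ≠ chevG2.neg s := fun e => hnn (by rw [e, hC.neg_neg hs])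
        obtain ⟨c, hcr, hcs⟩ := sep_char hF hs hr (Ne.symm hne) hnn' hsep'
        exact (TorStep.step hC hc hG hY hadd hconj hw hs hr (Ne.symm hne) hps hpr (by omega) hcr hcs
          (ih _ (by omega) (by omega)) u t).2
    · have h1 : ((chevG2.commWord F r s t u).map fun p => Yn p.1 p.2).prod = 1 := by
        refine List.prod_eq_one fun g hg => ?_
        obtain ⟨e, he, rfl⟩ := List.mem_map.1 hg
        have he1 : e.1 < chevG2.nroots := by
          simp only [ChevalleyDatum.commWord, List.mem_map] at he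
          obtain ⟨d, hd, rfl⟩ := he
          exact commTerms_lt hC hr hs d hd
        rw [commWord_zero hF hz t u e he]
        exact PartialUnip.Y_zero hadd he1
      rw [h1, mul_one]
      exact (res60_all hF hc hG hd (hY r hr t) (hY s hs u)).eq.symm
    · rw [hsum r hr s hs (by omega) (by omega) k' c hk hck hd t u]
      simp [ChevalleyDatum.commWord, hk, odd_cast hF hck, neg_eq_self hF]

/-- The relation between two long roots with long sum. -/
theorem base120 (t u : F) : Yn 10 u * Yn 6 t = Yn 6 t * Yn 10 u * Yn 11 (t * u) := by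
  haveI := SmallFields.charP_four hF
  obtain ⟨n6, n7, n8, n9, n10, n11⟩ : 6 < chevG2.nroots ∧ 7 < chevG2.nroots ∧ 8 < chevG2.nroots ∧
      9 < chevG2.nroots ∧ 10 < chevG2.nroots ∧ 11 < chevG2.nroots :=
    ⟨by decide, by decide, by decide, by decide, by decide, by decide⟩
  have hadd := Yn_add hF hc hG hbase h0
  have hY := Yn_map hF hc hG h0
  have hnil : ∀ i ∈ ([] : List ℕ), i < chevG2.rank := fun i hi => absurd hi List.not_mem_nil
  have hK : Known chevG2 T Yn [] 7 :=
    known_from hF hc hG hbase h0 hnil 7 (fun r hr s hs hr7 hs7 k c _ _ hres => by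
      exfalso
      have : ∀ r < 12, ∀ s < 12, 7 ≤ r → 7 ≤ s → ∀ k < 12, res120 r s k = false := by decide +kernel
      obtain ⟨w, hw, e⟩ := of_anyL hres
      simp only [Bool.and_eq_true, Nat.beq_eq] at e
      have hk : k < 12 := e.2 ▸ (moved hF hc hG (a := 11) (b := 11) n11 n11
        (fun hx hy => self_all hF hc hG hbase 11 n11 hx hy) (words_lt hw)).1
      rw [this r hr s hs hr7 hs7 k hk] at hres
      exact absurd hres (by simp)) 7 le_rfl
  have hpos : ∀ r, 6 ≤ r → r < 12 → 0 < gW chevG2 T [] r := by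
    intro r h1 h2
    have : ∀ r < 12, 6 ≤ r → 0 < gW chevG2 T [] r := by decide +kernel
    exact this r h2 h1
  have hmem : ∀ r, 7 ≤ r → r < 12 → ∀ t, Yn r t ∈ PartialUnip.Q chevG2 T Yn [] 7 := fun r h1 h2 t =>
    Y_mem h2 (hpos r (by omega) h2) h1 t
  obtain ⟨c, hcr, hcs⟩ := sep_char hF n6 n7 (by decide) (by decide) (by decide +kernel)
  have hconj : ∀ r < chevG2.nroots, ∀ (c : ℕ → Fˣ) (g : E), Ψ g = tor chevG2 c → ∀ t,
      g * Yn r t * g⁻¹ = Yn r ((torChar chevG2 c r : F) * t) :=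
    fun r hr c g hg t => conj_Y hC hc hG hr hg t
  have hterm : chevG2.commTerms 6 7 = [(8, 1, 1, 1), (9, 1, 1, 2), (10, -1, 1, 3), (11, -2, 2, 3)] := by
    decide +kernel
  let P : F → E := fun t => Yn 8 t * Yn 9 t * Yn 10 t
  have hstep : ∀ (t : F), Yn 6 t * Yn 7 1 * Yn 6 t = Yn 7 1 * P t := by
    intro t
    have h := (TorStep.step hC hc hG hY hadd hconj hnil n6 n7 (by decide) (hpos 6 le_rfl (by omega))
      (hpos 7 (by omega) (by omega)) (by decide) hcr hcs hK t 1).1
    simp only [ChevalleyDatum.commWord, hterm, List.map_cons, List.map_nil, List.prod_cons,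
      List.prod_nil, mul_one, one_pow, pow_one] at h
    rw [show ((1 : ℤ) : F) * -t = t by rw [Int.cast_one, one_mul, neg_eq_self hF],
      show ((-1 : ℤ) : F) * -t = t by rw [Int.cast_neg, Int.cast_one, neg_mul_neg, one_mul],
      show ((-2 : ℤ) : F) * (-t) ^ 2 = 0 by
        rw [Int.cast_neg, Int.cast_ofNat, two_eq_zero hF, neg_zero, zero_mul],
      PartialUnip.Y_zero hadd n11, mul_one] at h
    rw [mul_assoc, h]
    simp only [P, ← mul_assoc, ← hadd 6 n6, CharTwo.add_self_eq_zero,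
      PartialUnip.Y_zero hadd n6, one_mul]
  have hPQ : ∀ t, P t ∈ PartialUnip.Q chevG2 T Yn [] 7 := fun t =>
    mul_mem (mul_mem (hmem 8 (by omega) (by omega) _) (hmem 9 (by omega) (by omega) _))
      (hmem 10 (by omega) (by omega) _)
  have hc8 : ∀ t t', Commute (Yn 6 t') (Yn 8 t) := fun t t' =>
    sep_com hF hc hG n6 n8 (by decide) (by decide) (by decide +kernel) (by decide +kernel)
      (hY 6 n6 t') (hY 8 n8 t)
  have hc9 : ∀ t t', Commute (Yn 6 t') (Yn 9 t) := fun t t' =>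
    sep_com hF hc hG n6 n9 (by decide) (by decide) (by decide +kernel) (by decide +kernel)
      (hY 6 n6 t') (hY 9 n9 t)
  have h66 : ∀ t : F, Yn 6 t * Yn 6 t = 1 := fun t => by
    rw [← hadd 6 n6, CharTwo.add_self_eq_zero, PartialUnip.Y_zero hadd n6]
  -- conjugating the conjugate
  have hin : Yn 6 t * Yn 10 u * Yn 6 t ∈ PartialUnip.Q chevG2 T Yn [] 7 := by
    have e1 : Yn 6 t * (Yn 7 1 * P u) * Yn 6 t = Yn 7 1 * P (t + u) := by
      rw [← hstep u, ← hstep (t + u), hadd 6 n6 t u]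
      have : Yn 6 t * Yn 6 u = Yn 6 u * Yn 6 t := by rw [← hadd 6 n6, ← hadd 6 n6, add_comm]
      calc Yn 6 t * (Yn 6 u * Yn 7 1 * Yn 6 u) * Yn 6 t
          = (Yn 6 t * Yn 6 u) * Yn 7 1 * (Yn 6 u * Yn 6 t) := by group
        _ = _ := by rw [← this]
    have e2 : Yn 6 t * (Yn 7 1 * P u) * Yn 6 t =
        (Yn 7 1 * P t) * Yn 8 u * Yn 9 u * (Yn 6 t * Yn 10 u * Yn 6 t) := by
      rw [← hstep t]
      simp only [P, mul_assoc]
      rw [(hc8 u t).left_comm, (hc9 u t).left_comm]
      simp only [← mul_assoc]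
      simp only [mul_assoc _ (Yn 6 t) (Yn 6 t), h66, mul_one]
    rw [e1] at e2
    rw [eq_inv_mul_of_mul_eq e2.symm]
    have h7 := hmem 7 le_rfl (by omega) 1
    exact mul_mem (inv_mem (mul_mem (mul_mem (mul_mem h7 (hPQ t)) (hmem 8 (by omega) (by omega) u))
      (hmem 9 (by omega) (by omega) u))) (mul_mem h7 (hPQ _))
  have hout := mul_mem (hmem 10 (by omega) (by omega) u) (hmem 11 (by omega) (by omega) (t * u))
  have heq : Yn 6 t * Yn 10 u * Yn 6 t = Yn 10 u * Yn 11 (t * u) := by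
    refine inj_on_Q hC hY hadd hnil hK hin hout ?_
    have h := Unip.xg_comm hC n6 n10 (by decide) (by decide) t u
    have ht : chevG2.commTerms 6 10 = [(11, 1, 1, 1)] := by decide +kernel
    simp only [ChevalleyDatum.commWord, ht, List.map_cons, List.map_nil, List.prod_cons,
      List.prod_nil, mul_one, Int.cast_one, one_mul, pow_one, neg_eq_self hF] at h
    rw [map_mul, map_mul, map_mul, hY 6 n6, hY 10 n10, hY 11 n11, mul_assoc, h, ← mul_assoc,
      ← mul_assoc, ← xg_add hC, CharTwo.add_self_eq_zero, xg_zero hC, one_mul]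
  calc Yn 10 u * Yn 6 t = Yn 6 t * (Yn 6 t * Yn 10 u * Yn 6 t) := by
        simp only [← mul_assoc, h66, one_mul]
    _ = _ := by rw [heq, mul_assoc]

/-- The normalised lifts move along the Weyl group. -/
theorem exists_refl_Y {i : ℕ} (hi : i < chevG2.rank) :
    ∃ g : E, ∀ r < chevG2.nroots, ∀ t, g * Yn r t * g⁻¹ = Yn (chevG2.reflectRoot i r) t := by
  obtain ⟨g, hg⟩ : ∃ g, Ψ g = ng hC (chevG2.simple i) (1 : F) :=
    hG (Borel.ng_mem_group hC (hC.simple_lt hi) 1)
  refine ⟨g, fun r hr t => ?_⟩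
  have hr' := hC.reflect_lt hi hr
  obtain ⟨c', h1, h2⟩ := ng_conj_tor hC hi (c0 r)
  have hh : Ψ (g * pre Ψ (tor chevG2 (c0 r)) * g⁻¹) = tor chevG2 c' := by
    rw [map_mul, map_mul, map_inv, hg, map_pre_tor hC hG, h1]
  have hchar : torChar chevG2 c' (chevG2.reflectRoot i r) = torChar chevG2 (c0 r) r := by
    rw [h2 _ hr', hC.reflect_reflect hi hr]
  obtain ⟨v, hv⟩ : ∃ v, v = t / ((torChar chevG2 (c0 r) r : F) - 1) := ⟨_, rfl⟩
  rw [show Yn r t = ⁅pre Ψ (tor chevG2 (c0 r)), pre Ψ (xg hC r v)⁆ by rw [hv]; rfl,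
    show g * ⁅pre Ψ (tor chevG2 (c0 r)), pre Ψ (xg hC r v)⁆ * g⁻¹ =
      ⁅g * pre Ψ (tor chevG2 (c0 r)) * g⁻¹, g * pre Ψ (xg hC r v) * g⁻¹⁆ by
        simp only [commutatorElement_def]; group,
    Lift.comm_congr hc (b' := Yn (chevG2.reflectRoot i r) v) rfl (by
      rw [map_mul, map_mul, map_inv, hg, map_pre_x hC hG hr, ng_conj_x hC hi hr, eta_one hF, one_mul,
        map_Y hC hG h0 hr']),
    TorLift.bracket_Y hC hc hG h0 (self_all hF hc hG hbase) hr' hh, hchar, hv]
  congr 1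
  exact mul_div_cancel₀ _ (denom_ne h0 hr)

theorem moved120 {w : List ℕ} (hw : ∀ i ∈ w, i < chevG2.rank) :
    wLT T w 6 < chevG2.nroots ∧ wLT T w 10 < chevG2.nroots ∧ wLT T w 11 < chevG2.nroots ∧
    ∀ t u, Yn (wLT T w 10) u * Yn (wLT T w 6) t =
      Yn (wLT T w 6) t * Yn (wLT T w 10) u * Yn (wLT T w 11) (t * u) := by
  induction w with
  | nil => exact ⟨by decide, by decide, by decide, base120 hF hc hG hbase h0⟩
  | cons i w ih =>
    have hi := hw i List.mem_cons_self
    obtain ⟨h1, h2, h3, ih⟩ := ih fun j hj => hw j (List.mem_cons_of_mem i hj)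
    have e1 : wLT T (i :: w) 6 = chevG2.reflectRoot i (wLT T w 6) := (hC.reflect_eq hi h1).symm
    have e2 : wLT T (i :: w) 10 = chevG2.reflectRoot i (wLT T w 10) := (hC.reflect_eq hi h2).symm
    have e3 : wLT T (i :: w) 11 = chevG2.reflectRoot i (wLT T w 11) := (hC.reflect_eq hi h3).symm
    rw [e1, e2, e3]
    refine ⟨hC.reflect_lt hi h1, hC.reflect_lt hi h2, hC.reflect_lt hi h3, fun t u => ?_⟩
    obtain ⟨g, hg⟩ := exists_refl_Y hF hc hG hbase h0 hi
    rw [← hg _ h1, ← hg _ h2, ← hg _ h3]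
    calc g * Yn (wLT T w 10) u * g⁻¹ * (g * Yn (wLT T w 6) t * g⁻¹)
        = g * (Yn (wLT T w 10) u * Yn (wLT T w 6) t) * g⁻¹ := by group
      _ = _ := by rw [ih]; group

theorem known_all {w : List ℕ} (hw : ∀ i ∈ w, i < chevG2.rank) : Known chevG2 T Yn w 0 := by
  refine known_from hF hc hG hbase h0 hw 0 (fun r hr s hs _ _ k c _ _ hres t u => ?_) 0 le_rfl
  haveI := SmallFields.charP_four hF
  obtain ⟨v, hv, h⟩ := of_anyL hres
  obtain ⟨-, -, h3, hm⟩ := moved120 hF hc hG hbase h0 (words_lt hv)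
  simp only [imgPair, Bool.or_eq_true, Bool.and_eq_true, Nat.beq_eq] at h
  obtain ⟨⟨rfl, rfl⟩ | ⟨rfl, rfl⟩, rfl⟩ := h
  · exact hm t u
  · have := hm u t
    rw [mul_comm t u, this, mul_assoc (Yn (wLT T v 6) u * Yn (wLT T v 10) t), ← Yn_add hF hc hG hbase h0 _ h3,
      CharTwo.add_self_eq_zero, PartialUnip.Y_zero (Yn_add hF hc hG hbase h0) h3, mul_one]

omit h0 in
/-- The lifts. -/
theorem exists_rels :
    ∃ X : ℕ → F → E, Sys.Rels chevG2 X ∧ ∀ r < chevG2.nroots, ∀ t, Ψ (X r t) = xg hC r t := by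
  classical
  have hmov := moves (F := F) hF
  let c0 : ℕ → ℕ → Fˣ := fun r => if h : r < chevG2.nroots then (hmov r h).choose else 1
  have h0 : ∀ r < chevG2.nroots, torChar chevG2 (c0 r) r ≠ 1 := fun r hr => by
    simp only [c0, dif_pos hr]
    exact (hmov r hr).choose_spec
  refine ⟨TorLift.Y hC Ψ c0, ⟨Yn_add hF hc hG hbase h0, fun r hr s hs hne hnn t u => ?_⟩,
    Yn_map hF hc hG h0⟩
  obtain ⟨w, hmem, hpos⟩ := of_anyL (pair_clause hr hs hne hnn).1
  rw [Bool.and_eq_true] at hpos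
  have hw := words_lt hmem
  exact known_all hF hc hG hbase h0 hw r hr s hs hne (TorClosed.posW_iff hC hw hr hpos.1)
    (TorClosed.posW_iff hC hw hs hpos.2) (Nat.zero_le _) (Nat.zero_le _) t u

end Cfsg.Agent.G2FourMult
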